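import Cfsg.Agent.Lib.DistribPairs.Derived

/-!
# Conjugation invariant sets of prime order subgroups generating `q`-by-`p` groups in pairs

`Sys p q D`: two distinct members of `D` do not commute, generate a group with a normal `q`-subgroup
of index `p`, and are recovered from any two members of that group; subgroups `U ⊔ A` generated by
members have `U'` central.
-/

set_option autoImplicit false
set_option linter.unusedSectionVars false
set_option linter.style.haveILetI false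

namespace Cfsg.Agent.DistribPairs

open Subgroup
open scoped commutatorElement

variable {G : Type*} [Group G]

/-- The members inside `H`. -/
def mem' (D : Set (Subgroup G)) (H : Subgroup G) : Set (Subgroup G) := {B ∈ D | B ≤ H}

/-- The subgroup generated by the members inside `H`. -/
def gen (D : Set (Subgroup G)) (H : Subgroup G) : Subgroup G := sSup (mem' D H)

variable {D : Set (Subgroup G)} {p q : ℕ} {A B H U X : Subgroup G}

theorem gen_le : gen D H ≤ H := sSup_le fun _ hB => hB.2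

theorem le_gen (hA : A ∈ D) (h : A ≤ H) : A ≤ gen D H := le_sSup ⟨hA, h⟩

theorem gen_gen : gen D H ≤ gen D (gen D H) :=
  sSup_le fun _ hB => le_gen hB.1 (le_gen hB.1 hB.2)

theorem pair_le_gen (hA : A ∈ D) (hB : B ∈ D) : A ⊔ B ≤ gen D (A ⊔ B) :=
  sup_le (le_gen hA le_sup_left) (le_gen hB le_sup_right)

theorem le_gen_of_le {H K : Subgroup G} (hH : H ≤ gen D H) (h : H ≤ K) : H ≤ gen D K :=
  hH.trans (sSup_le fun _ hB => le_gen hB.1 (hB.2.trans h))

/-- `U` is the normal `q`-subgroup of index `p` of `H`, which is generated by its members. -/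
structure IsCore (q : ℕ) (D : Set (Subgroup G)) (H U : Subgroup G) : Prop where
  pg : IsPGroup q U
  le : U ≤ H
  norm : H ≤ normalizer (U : Set G)
  gens : H ≤ gen D H
  spl : ∀ A ∈ D, A ≤ H → H ≤ U ⊔ A

/-- Conjugation invariant set of subgroups of order `p`, distinct members not commuting. -/
structure Pre (p : ℕ) (D : Set (Subgroup G)) : Prop where
  hp : p.Prime
  card : ∀ A ∈ D, Nat.card A = p
  inv : ∀ A ∈ D, ∀ g : G, conjS g A ∈ D
  nc : ∀ A ∈ D, ∀ B ∈ D, A ≠ B → ¬ B ≤ centralizer (A : Set G)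

/-- The hypotheses under which the induction runs. -/
structure Sys (p q : ℕ) (D : Set (Subgroup G)) : Prop extends Pre p D where
  hq : q.Prime
  hp2 : p ≠ 2
  hq2 : q ≠ 2
  hpq : p ≠ q
  line : ∀ A ∈ D, ∀ B ∈ D, A ≠ B → ∃ Q : Subgroup G,
    IsPGroup q Q ∧ Q ≤ A ⊔ B ∧ A ⊔ B ≤ normalizer (Q : Set G) ∧ A ⊔ B ≤ Q ⊔ A
  closed : ∀ A ∈ D, ∀ B ∈ D, A ≠ B → ∀ C ∈ D, ∀ E ∈ D, C ≠ E → C ≤ A ⊔ B → E ≤ A ⊔ B →
    C ⊔ E = A ⊔ B
  mid : ∀ U : Subgroup G, IsPGroup q U → ∀ A ∈ D, A ≤ normalizer (U : Set G) →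
    U ⊔ A ≤ gen D (U ⊔ A) → ⁅U, U⁆ ≤ centralizer ((U ⊔ A : Subgroup G) : Set G)

theorem conjS_mem' (hP : Pre p D) {g : G} (hg : g ∈ normalizer (H : Set G)) {C : Subgroup G}
    (hC : C ∈ mem' D H) : conjS g C ∈ mem' D H :=
  ⟨hP.inv C hC.1 g, (conjS_mono g hC.2).trans_eq (conjS_eq_self_iff.2 hg)⟩

theorem normalizer_le_gen (hP : Pre p D) :
    normalizer (H : Set G) ≤ normalizer ((gen D H : Subgroup G) : Set G) := by
  have key : ∀ g ∈ normalizer (H : Set G), conjS g (gen D H) ≤ gen D H := by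
    intro g hg
    rw [conjS, map_le_iff_le_comap]
    refine sSup_le fun C hC => map_le_iff_le_comap.1 ?_
    exact le_gen (conjS_mem' hP hg hC).1 (conjS_mem' hP hg hC).2
  intro g hg
  refine conjS_eq_self_iff.1 (le_antisymm (key g hg) ?_)
  have h := conjS_mono g (key g⁻¹ (inv_mem hg))
  rwa [conjS_conjS_inv] at h

variable [Finite G]

namespace Pre

theorem ne_bot (hP : Pre p D) (hA : A ∈ D) : A ≠ ⊥ := fun h => by
  have := hP.card A hA
  rw [h, Subgroup.card_bot] at this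
  exact hP.hp.ne_one this.symm

theorem exp (hP : Pre p D) (hA : A ∈ D) {a : G} (ha : a ∈ A) : a ^ p = 1 :=
  pow_card_eq_one_of_mem (hP.card A hA) ha

theorem eq_of_le (hP : Pre p D) (hA : A ∈ D) (hB : B ∈ D) (h : A ≤ B) : A = B :=
  eq_of_le_of_card h ((hP.card A hA).trans (hP.card B hB).symm)

theorem inf_bot (hP : Pre p D) (hA : A ∈ D) (h : ¬ A ≤ X) : A ⊓ X = ⊥ :=
  inf_eq_bot_of_card_prime hP.hp (hP.card A hA) h

theorem fix_eq (hP : Pre p D) (hA : A ∈ D) (hB : B ∈ D) (h : A ≤ normalizer (B : Set G)) :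
    A = B := by
  by_contra hne
  exact hP.nc B hB A hA (Ne.symm hne)
    (le_centralizer_of_le_normalizer hP.hp (hP.card A hA) (hP.card B hB) h)

theorem fix_eq_of_gen (hP : Pre p D) (hA : A ∈ D) (hB : B ∈ D) {a : G} (ha : zpowers a = A)
    (h : conjS a B = B) : A = B :=
  hP.fix_eq hA hB (ha ▸ zpowers_le.2 (conjS_eq_self_iff.1 h))

/-- The members inside a subgroup they generate are conjugate in it. -/
theorem orbit (hP : Pre p D) (hA : A ∈ D) (hAH : A ≤ H) (hB : B ∈ D)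
    (hBH : B ≤ H) : ∃ h ∈ H, conjS h A = B := by
  haveI := Fact.mk hP.hp
  by_contra hne
  set O : Set (Subgroup G) := {C | ∃ h ∈ H, conjS h A = C} with hO
  have hmem : ∀ C ∈ O, C ∈ D := by
    rintro _ ⟨h, -, rfl⟩
    exact hP.inv A hA h
  have hstab : ∀ g ∈ H, ∀ C ∈ O, conjS g C ∈ O := by
    rintro g hg _ ⟨h, hh, rfl⟩
    exact ⟨g * h, mul_mem hg hh, conjS_mul g h A⟩
  have hA1 : {C ∈ O | ∀ g ∈ A, conjS g C = C} = {A} := by
    ext C
    simp only [Set.mem_setOf_eq, Set.mem_singleton_iff]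
    refine ⟨fun ⟨hC, hfix⟩ => ?_, fun hC => ⟨⟨1, one_mem H, by rw [conjS_one, hC]⟩,
      fun g hg => by rw [hC, conjS_self hg]⟩⟩
    exact (hP.fix_eq hA (hmem C hC) fun g hg => conjS_eq_self_iff.1 (hfix g hg)).symm
  have hB1 : {C ∈ O | ∀ g ∈ B, conjS g C = C} = ∅ := by
    rw [Set.eq_empty_iff_forall_notMem]
    rintro C ⟨hC, hfix⟩
    have := hP.fix_eq hB (hmem C hC) fun g hg => conjS_eq_self_iff.1 (hfix g hg)
    subst this
    obtain ⟨h, hh, he⟩ := hC
    exact hne ⟨h, hh, he⟩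
  have h1 := count_mod (isPGroup_of_card_prime (hP.card A hA)) O fun g hg => hstab g (hAH hg)
  have h2 := count_mod (isPGroup_of_card_prime (hP.card B hB)) O fun g hg => hstab g (hBH hg)
  rw [hA1, Set.ncard_singleton] at h1
  rw [hB1, Set.ncard_empty] at h2
  have h3 : (1 : ℕ) % p = 0 % p := h1.symm.trans h2
  rw [Nat.zero_mod, Nat.mod_eq_of_lt hP.hp.one_lt] at h3
  exact one_ne_zero h3

/-- An element of a `q`-group normalised by a member and normalising it centralises it. -/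
theorem norm_centralizes (hP : Pre p D) (hq : q.Prime) (hpq : p ≠ q) {T : Subgroup G}
    (hT : IsPGroup q T) (hA : A ∈ D) (hAT : A ≤ normalizer (T : Set G)) {w : G} (hw : w ∈ T)
    (hwA : conjS w A = A) : w ∈ centralizer (A : Set G) := by
  haveI := Fact.mk hP.hp
  haveI := Fact.mk hq
  rw [mem_centralizer_iff]
  intro a ha
  have h1 : ⁅a, w⁆ ∈ T := mul_mem ((mem_normalizer_iff.1 (hAT ha) w).1 hw) (inv_mem hw)
  have h2 : ⁅a, w⁆ ∈ A := by
    have := mul_mem ha (conj_mem_conjS w (inv_mem ha) |> fun h => (hwA ▸ h : w * a⁻¹ * w⁻¹ ∈ A))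
    simpa [commutatorElement_def, mul_assoc] using this
  have hd : Disjoint A T :=
    IsPGroup.disjoint_of_ne p q hpq A T (isPGroup_of_card_prime (hP.card A hA)) hT
  have h3 : ⁅a, w⁆ ∈ A ⊓ T := ⟨h2, h1⟩
  rw [hd.eq_bot] at h3
  exact commutatorElement_eq_one_iff_mul_comm.1 (mem_bot.1 h3)

theorem inf_pgroup (hP : Pre p D) (hq : q.Prime) (hpq : p ≠ q) (hA : A ∈ D)
    (hU : IsPGroup q U) : A ⊓ U = ⊥ := by
  haveI := Fact.mk hP.hp
  haveI := Fact.mk hq
  exact (IsPGroup.disjoint_of_ne p q hpq A U (isPGroup_of_card_prime (hP.card A hA)) hU).eq_bot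

end Pre

namespace IsCore

theorem eq_sup (hU : IsCore q D H U) (hA : A ∈ D) (hAH : A ≤ H) : H = U ⊔ A :=
  le_antisymm (hU.spl A hA hAH) (sup_le hU.le hAH)

theorem norm_mem (hU : IsCore q D H U) (hAH : A ≤ H) : A ≤ normalizer (U : Set G) :=
  hAH.trans hU.norm

end IsCore

namespace Sys

variable {C : Subgroup G}

theorem le_core (hS : Sys p q D) (hU : IsCore q D H U) (hA : A ∈ D) (hAH : A ≤ H)
    (hX : IsPGroup q X) (hXH : X ≤ H) : X ≤ U :=
  le_of_isPGroup_sup hS.hp hS.hq hS.hpq (hU.norm_mem hAH) (fun _ ha => hS.exp hA ha) hX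
    (hXH.trans (hU.spl A hA hAH))

theorem core_le (hS : Sys p q D) {H' U' : Subgroup G} (hU' : IsCore q D H' U')
    (hU : IsCore q D H U) (hA : A ∈ D) (hAH : A ≤ H) (h : H' ≤ H) : U' ≤ U :=
  hS.le_core hU hA hAH hU'.pg (hU'.le.trans h)

theorem core_norm (hS : Sys p q D) (hU : IsCore q D H U) (hA : A ∈ D) (hAH : A ≤ H) :
    normalizer (H : Set G) ≤ normalizer (U : Set G) := fun g hg =>
  conjS_eq_self_iff.1 (eq_of_le_of_card (hS.le_core hU hA hAH (isPGroup_conjS g hU.pg)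
    ((conjS_mono g hU.le).trans_eq (conjS_eq_self_iff.2 hg))) (card_conjS g U))

theorem core_conj (hS : Sys p q D) (hU : IsCore q D H U) (g : G) :
    IsCore q D (conjS g H) (conjS g U) := by
  refine ⟨isPGroup_conjS g hU.pg, conjS_mono g hU.le, fun x hx => ?_, ?_, fun B hB hBH => ?_⟩
  · rw [← conjS_eq_self_iff, ← conjS_mul, show x * g = g * (g⁻¹ * x * g) by group, conjS_mul,
      conjS_eq_of_le_normalizer hU.norm (mem_conjS.1 hx)]
  · refine (conjS_mono g hU.gens).trans ?_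
    rw [gen, conjS, map_le_iff_le_comap]
    exact sSup_le fun C hC => map_le_iff_le_comap.1
      (le_gen (hS.inv C hC.1 g) (conjS_mono g hC.2))
  · have hB' : conjS g⁻¹ B ≤ H := (conjS_mono g⁻¹ hBH).trans_eq (conjS_inv_conjS g H)
    have := conjS_mono g (hU.spl _ (hS.inv B hB g⁻¹) hB')
    rwa [conjS_sup, conjS_conjS_inv] at this

/-- The members inside `H` are conjugate under its core. -/
theorem core_orbit (hS : Sys p q D) (hU : IsCore q D H U) (hA : A ∈ D) (hAH : A ≤ H) (hB : B ∈ D)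
    (hBH : B ≤ H) : ∃ u ∈ U, conjS u A = B := by
  obtain ⟨h, hh, rfl⟩ := hS.orbit hA hAH hB hBH
  obtain ⟨u, hu, a, ha, rfl⟩ := exists_mul_of_mem_sup (hU.norm_mem hAH) (hU.spl A hA hAH hh)
  exact ⟨u, hu, by rw [conjS_mul, conjS_self ha]⟩

theorem mem'_eq_orbit (hS : Sys p q D) (hU : IsCore q D H U) (hA : A ∈ D) (hAH : A ≤ H) :
    mem' D H = {C | ∃ u ∈ U, conjS u A = C} := by
  ext C
  refine ⟨fun hC => hS.core_orbit hU hA hAH hC.1 hC.2, ?_⟩
  rintro ⟨u, hu, rfl⟩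
  exact ⟨hS.inv A hA u, conjS_le_of_mem (hU.le hu) hAH⟩

theorem core_full (hS : Sys p q D) (hU : IsCore q D H U) (hA : A ∈ D) (hAH : A ≤ H) :
    U ≤ ⁅A, U⁆ := by
  refine le_commutator_of_gen (hU.norm_mem hAH) (hS.inf_pgroup hS.hq hS.hpq hA hU.pg) ?_
  rw [← hS.mem'_eq_orbit hU hA hAH]
  exact hU.le.trans hU.gens

theorem derived_le_centralizer (hS : Sys p q D) (hU : IsCore q D H U) (hA : A ∈ D)
    (hAH : A ≤ H) : ⁅U, U⁆ ≤ centralizer (H : Set G) := by
  have he := hU.eq_sup hA hAH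
  have := hS.mid U hU.pg A hA (hU.norm_mem hAH) (he ▸ hU.gens)
  rwa [← he] at this

theorem fixed_le_derived (hS : Sys p q D) (hU : IsCore q D H U) (hA : A ∈ D) (hAH : A ≤ H) :
    U ⊓ centralizer (A : Set G) ≤ ⁅U, U⁆ := by
  obtain ⟨a, -, -, ha⟩ := exists_generator hS.hp (hS.card A hA)
  exact inf_centralizer_le_derived (hU.norm_mem hAH) (hS.core_full hU hA hAH) ha

theorem fixed_le_centralizer (hS : Sys p q D) (hU : IsCore q D H U) (hA : A ∈ D) (hAH : A ≤ H) :
    U ⊓ centralizer (A : Set G) ≤ U ⊓ centralizer (H : Set G) :=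
  le_inf inf_le_left ((hS.fixed_le_derived hU hA hAH).trans (hS.derived_le_centralizer hU hA hAH))

theorem derived_le_zc (hS : Sys p q D) (hU : IsCore q D H U) (hA : A ∈ D) (hAH : A ≤ H) :
    ⁅U, U⁆ ≤ U ⊓ centralizer (H : Set G) :=
  le_inf (le_normalizer_iff_commutator_le_right.1 Subgroup.le_normalizer)
    (hS.derived_le_centralizer hU hA hAH)

/-- An element of the core normalising a member centralises `H`. -/
theorem zc_of_fix (hS : Sys p q D) (hU : IsCore q D H U) (hA : A ∈ D) (hAH : A ≤ H) {u : G}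
    (hu : u ∈ U) (hfix : conjS u A = A) : u ∈ U ⊓ centralizer (H : Set G) :=
  hS.fixed_le_centralizer hU hA hAH
    ⟨hu, hS.norm_centralizes hS.hq hS.hpq hU.pg hA (hU.norm_mem hAH) hu hfix⟩

theorem core_ne_bot (hS : Sys p q D) (hU : IsCore q D H U) (hA : A ∈ D) (hAH : A ≤ H)
    (hB : B ∈ D) (hBH : B ≤ H) (hne : A ≠ B) : U ≠ ⊥ := fun h => by
  obtain ⟨u, hu, rfl⟩ := hS.core_orbit hU hA hAH hB hBH
  rw [h, mem_bot] at hu
  exact hne (by rw [hu, conjS_one])

theorem ncard_members (hS : Sys p q D) (hU : IsCore q D H U) (hA : A ∈ D) (hAH : A ≤ H) :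
    ∃ n : ℕ, (mem' D H).ncard = q ^ n := by
  haveI := Fact.mk hS.hq
  rw [hS.mem'_eq_orbit hU hA hAH]
  exact ncard_orbit hU.pg A

theorem odd_members (hS : Sys p q D) (hU : IsCore q D H U) (hA : A ∈ D) (hAH : A ≤ H) :
    Odd (mem' D H).ncard := by
  obtain ⟨n, hn⟩ := hS.ncard_members hU hA hAH
  rw [hn]
  exact (hS.hq.odd_of_ne_two hS.hq2).pow

theorem exists_line_core (hS : Sys p q D) (hA : A ∈ D) (hB : B ∈ D) (hne : A ≠ B) :
    ∃ Q : Subgroup G, IsCore q D (A ⊔ B) Q := by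
  obtain ⟨Q, hQ, hQL, hN, hL⟩ := hS.line A hA B hB hne
  refine ⟨Q, hQ, hQL, hN, pair_le_gen hA hB, fun C hC hCL => ?_⟩
  obtain ⟨h, hh, rfl⟩ := hS.orbit hA le_sup_left hC hCL
  have := conjS_mono h hL
  rwa [conjS_self hh, conjS_sup, conjS_eq_of_le_normalizer hN hh] at this

/-- There is an odd number of members. -/
theorem odd_ncard (hS : Sys p q D) (hne : D.Nonempty) : Odd D.ncard := by
  classical
  obtain ⟨A, hA⟩ := hne
  haveI := Fintype.ofFinite (Subgroup G)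
  set s := (D \ {A}).toFinset with hs
  have h1 : D.ncard = s.card + 1 := by
    rw [← Set.ncard_sdiff_singleton_add_one hA, Set.ncard_eq_toFinset_card']
  have h2 : Even s.card := by
    rw [Finset.card_eq_sum_card_image (fun B => A ⊔ B) s]
    refine Finset.even_sum _ fun L hL => ?_
    obtain ⟨B, hB, rfl⟩ := Finset.mem_image.1 hL
    obtain ⟨hB, hBA⟩ : B ∈ D ∧ B ≠ A := by simpa [s] using hB
    obtain ⟨Q, hQ⟩ := hS.exists_line_core hA hB (Ne.symm hBA)
    have hfib : {x ∈ s | A ⊔ x = A ⊔ B} = (mem' D (A ⊔ B) \ {A}).toFinset := by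
      ext C
      simp only [s, Finset.mem_filter, Set.mem_toFinset, Set.mem_sdiff, Set.mem_singleton_iff]
      refine ⟨fun ⟨⟨hC, hCA⟩, he⟩ => ⟨⟨hC, he ▸ le_sup_right⟩, hCA⟩, fun ⟨⟨hC, hCL⟩, hCA⟩ =>
        ⟨⟨hC, hCA⟩, hS.closed A hA B hB (Ne.symm hBA) A hA C hC (Ne.symm hCA) le_sup_left hCL⟩⟩
    rw [hfib, ← Set.ncard_eq_toFinset_card',
      Set.ncard_sdiff_singleton_of_mem (show A ∈ mem' D (A ⊔ B) from ⟨hA, le_sup_left⟩)]
    exact Nat.Odd.sub_odd (hS.odd_members hQ hA le_sup_left) odd_one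
  rw [h1]
  exact h2.add_one

end Sys

end Cfsg.Agent.DistribPairs
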