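import Cfsg.Agent.Lib.DistribPairs.Invol
import Cfsg.Agent.Lib.ZStar.Main

/-!
# No involution centralises two members

Otherwise `χ (t b) = χ t` for every conjugate `b` of an element of a member and every character in
the principal 2-block, and the orthogonality of that block makes a member lie in a proper kernel.
-/

set_option autoImplicit false
set_option linter.unusedSectionVars false
set_option linter.style.haveILetI false

namespace Cfsg.Agent.DistribPairs

open Subgroup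
open Cfsg.Agent.Blocks Cfsg.Agent.Characters Cfsg.Agent.ZStar.Principal
open scoped commutatorElement

universe u

variable {G : Type u} [Group G] [Finite G] {D : Set (Subgroup G)} {p q : ℕ}
  {A B C E L Q W U : Subgroup G} {t : G}

theorem odd_card_of_core (hS : Sys p q D) (hU : IsCore q D W U) (hA : A ∈ D) (hAW : A ≤ W) :
    Odd (Nat.card W) := by
  rw [← Nat.not_even_iff_odd, even_iff_two_dvd]
  intro h
  haveI := Fact.mk Nat.prime_two
  obtain ⟨x, hx⟩ := exists_prime_orderOf_dvd_card' 2 h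
  rw [← Subgroup.orderOf_coe] at hx
  have hxU : (x : G) ∈ U := le_of_isPGroup_sup hS.hp Nat.prime_two hS.hp2 (hU.norm_mem hAW)
    (fun a ha => hS.exp hA ha) (IsPGroup.of_card (n := 1) (by rw [Nat.card_zpowers, hx, pow_one]))
    ((zpowers_le.2 x.2).trans (hU.spl A hA hAW)) (mem_zpowers _)
  obtain ⟨k, hk⟩ := hU.pg ⟨x, hxU⟩
  have hd : orderOf (x : G) ∣ q ^ k :=
    orderOf_dvd_of_pow_eq_one (by simpa using congrArg Subtype.val hk)
  rw [hx] at hd
  exact hS.hq2 ((Nat.prime_dvd_prime_iff_eq Nat.prime_two hS.hq).1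
    (Nat.prime_two.dvd_of_dvd_pow hd)).symm

theorem odd_card_of_isPGroup (hS : Sys p q D) {N : Subgroup G} (hN : IsPGroup q N) :
    Odd (Nat.card N) := by
  haveI := Fact.mk hS.hq
  obtain ⟨n, hn⟩ := hN.exists_card_eq
  rw [hn]
  exact (hS.hq.odd_of_ne_two hS.hq2).pow

/-- The correcting element in a line. -/
theorem exists_twist (hS : Sys p q D) (hL : IsCore q D L Q) (hC : C ∈ D) (hCL : C ≤ L)
    (ht : t * t = 1) (htQ : t ∈ normalizer (Q : Set G))
    (hinv : ∀ w ∈ Q, w * (t * w * t⁻¹) ∈ Q ⊓ centralizer (L : Set G)) {c : G} (hc : c ∈ C)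
    {w : G} (hw : w ∈ Q) :
    ∃ h ∈ Q, ∃ ζ ∈ Q ⊓ centralizer (L : Set G), h * (t * (w * c * w⁻¹)) * h⁻¹ = t * (ζ * c) := by
  set Z := Q ⊓ centralizer (L : Set G) with hZ
  set Z₀ := Z.subgroupOf Q with hZ₀
  have hzc : ∀ z ∈ Z, ∀ g ∈ L, g * z = z * g := fun z hz g hg => mem_centralizer_iff.1 hz.2 g hg
  haveI : Z₀.Normal := ⟨fun z hz g => by
    show (g : G) * (z : G) * (g : G)⁻¹ ∈ Z
    rw [hzc (z : G) hz (g : G) (hL.le g.2), mul_inv_cancel_right]
    exact hz⟩
  set π := QuotientGroup.mk' Z₀ with hπ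
  have hπs : Function.Surjective π := QuotientGroup.mk'_surjective Z₀
  have hmem : ∀ x : Q, π x = 1 ↔ (x : G) ∈ Z := fun x => by
    rw [hπ, QuotientGroup.mk'_apply, QuotientGroup.eq_one_iff]; rfl
  have hcomm : ∀ a b : Q ⧸ Z₀, a * b = b * a := by
    intro a b
    obtain ⟨x, rfl⟩ := hπs a
    obtain ⟨y, rfl⟩ := hπs b
    rw [← commutatorElement_eq_one_iff_mul_comm, ← map_commutatorElement, hmem]
    exact hS.derived_le_zc hL hC hCL (commutator_mem_commutator x.2 y.2)
  have hcN : ∀ x ∈ Q, c * x * c⁻¹ ∈ Q := fun x hx =>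
    (mem_normalizer_iff.1 (hL.norm_mem hCL hc) x).1 hx
  let σ₀ : Q →* Q := ((MulAut.conj c).toMonoidHom.comp Q.subtype).codRestrict Q fun x => by
    simpa using hcN x x.2
  have hσ₀ : ∀ x : Q, (σ₀ x : G) = c * (x : G) * c⁻¹ := fun x => by simp [σ₀]
  let σ : Q ⧸ Z₀ →* Q ⧸ Z₀ := QuotientGroup.map Z₀ Z₀ σ₀ (fun x hx => by
    show (σ₀ x : G) ∈ Z
    rw [hσ₀, hzc (x : G) hx c (hCL hc), mul_inv_cancel_right]
    exact hx)
  have hσ : ∀ x : Q, σ (π x) = π (σ₀ x) := fun x => rfl
  let f : Q ⧸ Z₀ →* Q ⧸ Z₀ := MonoidHom.mk' (fun x => x * σ x) fun a b => by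
    simp only [map_mul]
    rw [mul_assoc, ← mul_assoc b, hcomm b, ← mul_assoc, ← mul_assoc, mul_assoc _ b]
  have hiter : ∀ (n : ℕ) (y : Q), σ^[n] (π y) = π (σ₀^[n] y) ∧
      (σ₀^[n] y : G) = c ^ n * (y : G) * (c ^ n)⁻¹ := by
    intro n y
    induction n with
    | zero => simp
    | succ n ih =>
      rw [Function.iterate_succ_apply', Function.iterate_succ_apply', ih.1, hσ, hσ₀, ih.2]
      refine ⟨rfl, ?_⟩
      rw [pow_succ']; group
  have hinj : Function.Injective f := by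
    rw [injective_iff_map_eq_one]
    intro x hx
    have hx' : σ x = x⁻¹ := eq_inv_of_mul_eq_one_right hx
    have hit : ∀ n : ℕ, σ^[2 * n + 1] x = x⁻¹ := by
      intro n
      induction n with
      | zero => simpa using hx'
      | succ n ih =>
        rw [show 2 * (n + 1) + 1 = (2 * n + 1) + 1 + 1 by ring, Function.iterate_succ_apply',
          Function.iterate_succ_apply', ih, map_inv, hx', inv_inv, hx']
    obtain ⟨m, hm⟩ := hS.hp.odd_of_ne_two hS.hp2
    have hp1 : σ^[p] x = x := by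
      obtain ⟨y, rfl⟩ := hπs x
      obtain ⟨h1, h2⟩ := hiter p y
      rw [h1]
      congr 1
      refine Subtype.ext ?_
      rw [h2, hS.exp hC hc, one_mul, inv_one, mul_one]
    have hsq : x ^ 2 = 1 := by
      rw [hm, hit m] at hp1
      rw [pow_two]
      nth_rewrite 1 [← hp1]
      exact inv_mul_cancel x
    obtain ⟨y, rfl⟩ := hπs x
    obtain ⟨k, hk⟩ := hL.pg y
    rw [hmem]
    refine mem_of_pow_mem Nat.prime_two hS.hq (Ne.symm hS.hq2) (k := k) ?_ ?_
    · simpa using congrArg Subtype.val hk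
    · rw [← map_pow, hmem] at hsq
      simpa using hsq
  set w' : Q := ⟨w, hw⟩
  obtain ⟨x, hx⟩ := Finite.injective_iff_surjective.1 hinj (π w' * (σ (π w'))⁻¹)
  obtain ⟨h, rfl⟩ := hπs x
  have hx' : π h * π (σ₀ h) = π w' * (π (σ₀ w'))⁻¹ := hx
  let ζ : Q := ⟨t * (h : G) * t⁻¹, (mem_normalizer_iff.1 htQ _).1 h.2⟩ * w' *
    (σ₀ w')⁻¹ * (σ₀ h)⁻¹
  have hζ : (ζ : G) ∈ Z := by
    rw [← hmem]
    simp only [ζ, map_mul, map_inv]
    have ht' : π ⟨t * (h : G) * t⁻¹, (mem_normalizer_iff.1 htQ _).1 h.2⟩ = (π h)⁻¹ := by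
      refine eq_inv_of_mul_eq_one_right ?_
      rw [← map_mul, hmem]
      exact hinv h h.2
    rw [ht', mul_assoc ((π h)⁻¹), ← hx']
    group
  refine ⟨h, h.2, ζ, hζ, ?_⟩
  show (h : G) * (t * (w * c * w⁻¹)) * (h : G)⁻¹ = _
  have : (ζ : G) = t * (h : G) * t⁻¹ * w * (c * w * c⁻¹)⁻¹ * (c * (h : G) * c⁻¹)⁻¹ := by
    simp [ζ, w', hσ₀]
  rw [this]
  conv_rhs => rw [inv_eq_self ht]
  simp only [mul_inv_rev, inv_inv, mul_assoc, inv_mul_cancel_left, inv_mul_cancel, mul_one]
  rw [← mul_assoc t t, ht, one_mul]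

namespace Min

/-- A central element of a stable line's core lies in a normal `q`-subgroup of `C(t)`. -/
theorem exists_normal_q (hM : Min p q D) (ht : t * t = 1) (hC : C ∈ D)
    (hc : C ≤ centralizer ({t} : Set G)) (hE : E ∈ D) (hEc : E ≤ centralizer ({t} : Set G))
    (hne : C ≠ E) (hB : B ∈ D) (hBC : B ≠ C) (hQ : IsCore q D (B ⊔ C) Q) {ζ : G}
    (hζ : ζ ∈ Q ⊓ centralizer ((B ⊔ C : Subgroup G) : Set G))
    (hζt : ζ ∈ centralizer ({t} : Set G)) (hζ1 : ζ ≠ 1) (ht1 : t ≠ 1) :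
    ∃ N : Subgroup G, ζ ∈ N ∧ IsPGroup q N ∧ N ≤ centralizer ({t} : Set G) ∧
      centralizer ({t} : Set G) ≤ normalizer (N : Set G) := by
  haveI := Fact.mk hM.hq
  set Ct := centralizer ({t} : Set G) with hCt
  have hCL : C ≤ B ⊔ C := le_sup_right
  obtain ⟨W, U, hW, hU, hLW⟩ := hM.exists_maxGood (hM.proper B hB C hC) (pair_le_gen hB hC)
  have hCW : C ≤ W := hCL.trans hLW
  have hQU : Q ≤ U := hM.core_le hQ hU hC hCW hLW
  have hζW : ζ ∈ U ⊓ centralizer (W : Set G) := by
    refine hM.derived_le_zc hU hC hCW (commutator_mono hQU hQU ?_)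
    exact hM.fixed_le_derived hQ hC hCL ⟨hζ.1, centralizer_le hCL hζ.2⟩
  have hZW : ZMax q D W U := ⟨hW, hU, fun h => hζ1 (by rwa [h, mem_bot] at hζW)⟩
  -- the members centralised by `t`
  obtain ⟨Ut, hUt⟩ := hM.good (gen D Ct) (hM.gen_centralizer_ne_top ht1) gen_gen
  have hCM : C ≤ gen D Ct := le_gen hC hc
  have hEM : E ≤ gen D Ct := le_gen hE hEc
  have hNUt : Ct ≤ normalizer (Ut : Set G) :=
    (Subgroup.le_normalizer.trans (normalizer_le_gen hM.toPre)).trans
      (hM.core_norm hUt hC hCM)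
  have hUne : Ut ≠ ⊥ := hM.core_ne_bot hUt hC hCM hE hEM hne
  have hEW : ∀ X ∈ D, X ≤ Ct → X ≤ W := by
    have hζC : ζ ∈ centralizer (C : Set G) := centralizer_le hCL hζ.2
    have hzpN : zpowers ζ ≤ normalizer (Ut : Set G) := zpowers_le.2 (hNUt hζt)
    have hR : IsPGroup q ↥(zpowers ζ ⊔ Ut) :=
      (hU.pg.to_le (zpowers_le.2 hζW.1)).to_sup_of_normal_right' hUt.pg hzpN
    have hCR : C ≤ normalizer ((zpowers ζ ⊔ Ut : Subgroup G) : Set G) :=
      le_normalizer_sup' ((le_centralizer_iff.1 (zpowers_le.2 hζC)).trans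
        (centralizer_le_normalizer _)) (hUt.norm_mem hCM)
    obtain ⟨R, hR', hRle⟩ := MaxInv.exists_le (A := C) hR hCR
    obtain ⟨U', hW'⟩ := hM.zmax_of_meet hZW hC hCW hR' (fun h => hζ1 (by
      have : ζ ∈ R ⊓ centralizer (C : Set G) := ⟨hRle (mem_sup_left (mem_zpowers ζ)), hζC⟩
      rwa [h, mem_bot] at this))
    set W' := gen D (normalizer (R : Set G))
    have hCW' : C ≤ W' := le_gen hC hR'.1.2
    have hEW' : ∀ X ∈ D, X ≤ Ct → X ≤ W' := by
      intro X hX hXc
      obtain ⟨u, hu, rfl⟩ := hM.core_orbit hUt hC hCM hX (le_gen hX hXc)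
      exact le_gen hX (conjS_le_of_mem (Subgroup.le_normalizer (hRle (mem_sup_right hu))) hR'.1.2)
    have hζN : ζ ∈ normalizer (W' : Set G) :=
      normalizer_le_gen hM.toPre (Subgroup.le_normalizer
        (Subgroup.le_normalizer (hRle (mem_sup_left (mem_zpowers ζ)))))
    -- `ζ` fixes another of them
    have hζpg : IsPGroup q (zpowers ζ) := hU.pg.to_le (zpowers_le.2 hζW.1)
    have hinvset : ∀ g ∈ zpowers ζ, ∀ X ∈ mem' D Ct, conjS g X ∈ mem' D Ct := fun g hg X hX =>
      conjS_mem' hM.toPre (Subgroup.le_normalizer ((zpowers_le.2 hζt : zpowers ζ ≤ Ct) hg)) hX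
    have hcount := count_mod hζpg (mem' D Ct) hinvset
    have hset : mem' D Ct = mem' D (gen D Ct) := by
      ext X
      exact ⟨fun h => ⟨h.1, le_gen h.1 h.2⟩, fun h => ⟨h.1, h.2.trans gen_le⟩⟩
    obtain ⟨n, hn⟩ := hM.ncard_members hUt hC hCM
    rw [← hset] at hn
    have h2 : 1 < (mem' D Ct).ncard :=
      (Set.one_lt_ncard_iff (Set.toFinite _)).2 ⟨C, E, ⟨hC, hc⟩, ⟨hE, hEc⟩, hne⟩
    have hn0 : n ≠ 0 := fun h => by rw [hn, h, pow_zero] at h2; exact lt_irrefl _ h2
    set F := {X ∈ mem' D Ct | ∀ g ∈ zpowers ζ, conjS g X = X} with hF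
    have hFC : C ∈ F := ⟨⟨hC, hc⟩, fun g hg => conjS_eq_of_le_normalizer
      (zpowers_le.2 (centralizer_le_normalizer _ hζC)) hg⟩
    obtain ⟨C', hC', hC'ne⟩ : ∃ C' ∈ F, C' ≠ C := by
      by_contra hcon
      push Not at hcon
      have h1 : F = {C} := Set.eq_singleton_iff_unique_mem.2 ⟨hFC, hcon⟩
      rw [h1, Set.ncard_singleton, hn] at hcount
      have h3 : q ^ n % q = 1 % q := hcount
      rw [Nat.dvd_iff_mod_eq_zero.mp (dvd_pow_self q hn0), Nat.mod_eq_of_lt hM.hq.one_lt] at h3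
      exact zero_ne_one h3
    obtain ⟨u, hu, hCu⟩ := hM.core_orbit hUt hC hCM hC'.1.1 (le_gen hC'.1.1 hC'.1.2)
    have hw : u⁻¹ * ζ * u ∈ zpowers ζ ⊔ Ut :=
      mul_mem (mul_mem (mem_sup_right (inv_mem hu)) (mem_sup_left (mem_zpowers ζ)))
        (mem_sup_right hu)
    have hwC := hM.norm_centralizes hM.hq hM.hpq hR hC hCR hw (by
      rw [conjS_mul, conjS_mul, hCu, hC'.2 ζ (mem_zpowers ζ), ← hCu, conjS_inv_conjS])
    have hC'W : C' ≤ W := by
      refine (le_gen hC'.1.1 fun x hx => ?_).trans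
        (hM.eq_gen_centralizer hW hζW.2 hζ1).ge
      rw [mem_centralizer_singleton_iff]
      rw [← hCu] at hx
      have hx' := mem_centralizer_iff.1 hwC _ (mem_conjS.1 hx)
      have := congrArg (fun z => u * z * u⁻¹) hx'
      simpa [mul_assoc] using this
    have heq : W' = W := hM.eq_of_share _ W' U' W U rfl hW' hZW C hC C' hC'.1.1 hC'ne.symm hCW'
      (hEW' C' hC'.1.1 hC'.1.2) hCW hC'W ζ hζW hζ1 hζN
    intro X hX hXc
    exact heq ▸ hEW' X hX hXc
  have htN : t ∈ normalizer (W : Set G) := hM.insight ht hW.1.2 hC hc hEW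
  have htU := hM.core_norm hU hC hCW htN
  set Z := U ⊓ centralizer (W : Set G) with hZ
  have htZ : ∀ z ∈ Z, t * z * t⁻¹ ∈ Z := fun z hz =>
    (mem_normalizer_iff.1 (mem_normalizer_inf htU (mem_normalizer_centralizer htN)) z).1 hz
  -- `C(t)` normalises `W`
  have hCtW : Ct ≤ normalizer (W : Set G) := by
    intro h hh
    refine conjS_eq_self_iff.1 ?_
    have hZ2 := hM.zmax_conj hZW h
    have hE2 : ∀ X ∈ D, X ≤ Ct → X ≤ conjS h W := by
      intro X hX hXc
      have := conjS_mono h (hEW _ (hM.inv X hX h⁻¹)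
        ((conjS_mono h⁻¹ hXc).trans_eq (conjS_self (inv_mem hh))))
      rwa [conjS_conjS_inv] at this
    by_cases hx : ∃ x ∈ Z, ⁅x, t⁆ ≠ 1
    · obtain ⟨x, hx, hxt⟩ := hx
      set u := x * t * x⁻¹ with hu
      have hu2 : u * u = 1 := by
        rw [hu, show x * t * x⁻¹ * (x * t * x⁻¹) = x * (t * t) * x⁻¹ by group, ht, mul_one,
          mul_inv_cancel]
      have hCtu : centralizer ({u} : Set G) = conjS x Ct := by
        ext z
        rw [mem_conjS, hCt, mem_centralizer_singleton_iff, mem_centralizer_singleton_iff, hu]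
        constructor
        · intro h
          have := congrArg (fun y => x⁻¹ * y * x) h
          simpa [mul_assoc] using this
        · intro h
          have := congrArg (fun y => x * y * x⁻¹) h
          simpa [mul_assoc] using this
      have hfixW : ∀ X : Subgroup G, X ≤ W → conjS x X = X := fun X hX =>
        conjS_eq_self_iff.2 (centralizer_le_normalizer _ (centralizer_le hX hx.2))
      have huN : u ∈ normalizer ((conjS h W : Subgroup G) : Set G) := by
        refine hM.insight hu2 hZ2.max.1.2 hC ?_ fun X hX hXu => ?_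
        · rw [hCtu, ← hfixW C hCW]
          exact conjS_mono x hc
        · rw [hCtu] at hXu
          have h1 : conjS x⁻¹ X ≤ Ct := (conjS_mono x⁻¹ hXu).trans_eq (conjS_inv_conjS x Ct)
          have h2 := hE2 _ (hM.inv X hX x⁻¹) h1
          have h3 := hfixW _ (hEW _ (hM.inv X hX x⁻¹) h1)
          rw [conjS_conjS_inv] at h3
          rw [h3]; exact h2
      have htN2 : t ∈ normalizer ((conjS h W : Subgroup G) : Set G) :=
        hM.insight ht hZ2.max.1.2 hC hc hE2
      have hwZ : ⁅x, t⁆ ∈ Z := by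
        rw [commutatorElement_def, show x * t * x⁻¹ * t⁻¹ = x * (t * x⁻¹ * t⁻¹) by group]
        exact mul_mem hx (htZ _ (inv_mem hx))
      exact hM.eq_of_share _ (conjS h W) (conjS h U) W U rfl hZ2 hZW C hC E hE hne
        (hE2 C hC hc) (hE2 E hE hEc) hCW (hEW E hE hEc) _ hwZ hxt
        (by rw [commutatorElement_def]; exact mul_mem huN (inv_mem htN2))
    · push Not at hx
      have hZt : ∀ z ∈ Z, t * z * t⁻¹ = z := fun z hz => by
        rw [← (commutatorElement_eq_one_iff_mul_comm.1 (hx z hz)), mul_inv_cancel_right]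
      have hMW : gen D Ct ≤ W := sSup_le fun X hX => hEW X hX.1 hX.2
      have hUtU : Ut ≤ U := hM.core_le hUt hU hC hCW hMW
      have hder : ⁅U, U⁆ ≤ Z := hM.derived_le_zc hU hC hCW
      have hWU : U ≤ normalizer (Ut : Set G) := by
        have hpre : ∀ v ∈ U, ∀ τ ∈ Ut, v * τ * v⁻¹ ∈ Ut := by
          intro v hv τ hτ
          have htτ : t * τ * t⁻¹ = τ := by
            rw [← mem_centralizer_singleton_iff.1 (gen_le (hUt.le hτ)), mul_inv_cancel_right]
          set v' := t * v * t⁻¹ with hv'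
          have hv'U : v' ∈ U := (mem_normalizer_iff.1 htU v).1 hv
          set f := v * v' with hf
          have hfU : f ∈ U := mul_mem hv hv'U
          have htf : t * f * t⁻¹ = v' * v := by
            have hti := inv_eq_self ht
            rw [hf, hv', hti]
            simp [mul_assoc, ht]
          set z := f⁻¹ * (t * f * t⁻¹) with hz
          have hzZ : z ∈ Z := by
            rw [hz, htf, hf, show (v * v')⁻¹ * (v' * v) = ⁅v'⁻¹, v⁻¹⁆ by
              rw [commutatorElement_def]; group]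
            exact hder (commutator_mem_commutator (inv_mem hv'U) (inv_mem hv))
          have hff : t * f * t⁻¹ = f * z := by rw [hz, mul_inv_cancel_left]
          have hzz : z * z = 1 := by
            have h1 : t * (t * f * t⁻¹) * t⁻¹ = f := by
              rw [← mul_assoc, ← mul_assoc, ht, one_mul, mul_assoc, ← mul_inv_rev, ht, inv_one,
                mul_one]
            rw [hff, show t * (f * z) * t⁻¹ = (t * f * t⁻¹) * (t * z * t⁻¹) by group, hff,
              hZt z hzZ, mul_assoc] at h1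
            exact mul_eq_left.1 h1
          have hz1 : z = 1 := by
            obtain ⟨k, hk⟩ := hU.pg ⟨z, hzZ.1⟩
            exact mem_bot.1 (mem_of_pow_mem Nat.prime_two hM.hq (Ne.symm hM.hq2)
              (U := (⊥ : Subgroup G)) (k := k) (by simpa using congrArg Subtype.val hk)
              (by rw [pow_two, hzz]; exact one_mem _))
          have hfC : f ∈ Ct := by
            rw [hCt, mem_centralizer_singleton_iff]
            rw [hz1, mul_one] at hff
            exact (mul_inv_eq_iff_eq_mul.1 hff).symm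
          obtain ⟨u, hu, hCu⟩ := hM.core_orbit hUt hC hCM (hM.inv C hC f)
            (le_gen (hM.inv C hC f) (conjS_le_of_mem hfC hc))
          set z' := u⁻¹ * f with hz'
          have hz'Z : z' ∈ Z := hM.zc_of_fix hU hC hCW (mul_mem (inv_mem (hUtU hu)) hfU)
            (by rw [hz', conjS_mul, ← hCu, conjS_inv_conjS])
          set c := ⁅τ, v⁆ with hc0
          have hcZ : c ∈ Z := hder (commutator_mem_commutator (hUtU hτ) hv)
          have hcv : ∀ g ∈ U, g * c = c * g := fun g hg =>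
            mem_centralizer_iff.1 hcZ.2 g (hU.le hg)
          have hc' : ⁅τ, v'⁆ = c := by
            calc ⁅τ, v'⁆ = ⁅t * τ * t⁻¹, t * v * t⁻¹⁆ := by rw [htτ, hv']
              _ = t * c * t⁻¹ := by rw [hc0]; simp only [commutatorElement_def]; group
              _ = c := hZt c hcZ
          have hcc : c * c ∈ Ut := by
            have e1 : ⁅τ, v * v'⁆ = c * (v * ⁅τ, v'⁆ * v⁻¹) := by
              rw [hc0]; simp only [commutatorElement_def]; group
            rw [hc', hcv v hv, mul_inv_cancel_right] at e1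
            rw [← e1, ← hf, show f = u * z' by rw [hz', mul_inv_cancel_left]]
            have hzτ : z' * τ⁻¹ * z'⁻¹ = τ⁻¹ := by
              rw [← mem_centralizer_iff.1 hz'Z.2 τ⁻¹ (inv_mem (hU.le (hUtU hτ))),
                mul_inv_cancel_right]
            have e2 : ⁅τ, u * z'⁆ = τ * u * τ⁻¹ * u⁻¹ := by
              rw [commutatorElement_def, mul_inv_rev]
              calc τ * (u * z') * τ⁻¹ * (z'⁻¹ * u⁻¹) = τ * u * (z' * τ⁻¹ * z'⁻¹) * u⁻¹ := by group
                _ = _ := by rw [hzτ]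
            rw [e2]
            exact mul_mem (mul_mem (mul_mem hτ hu) (inv_mem hτ)) (inv_mem hu)
          have hcU : c ∈ Ut := by
            obtain ⟨k, hk⟩ := hU.pg ⟨c, hcZ.1⟩
            exact mem_of_pow_mem Nat.prime_two hM.hq (Ne.symm hM.hq2) (k := k)
              (by simpa using congrArg Subtype.val hk) (by rwa [pow_two])
          have : v * τ * v⁻¹ = c⁻¹ * τ := by
            rw [hc0]; simp only [commutatorElement_def]; group
          rw [this]
          exact mul_mem (inv_mem hcU) hτ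
        intro v hv
        refine conjS_eq_self_iff.1 (eq_of_le_of_card ?_ (card_conjS v Ut))
        intro y hy
        have := hpre v hv _ (mem_conjS.1 hy)
        simpa [mul_assoc] using this
      have hWN : W ≤ normalizer (Ut : Set G) :=
        (hU.spl C hC hCW).trans (sup_le hWU (hUt.norm_mem hCM))
      exact conjS_eq_self_iff.2 (hM.normalizer_le_of_le hW (le_gen_of_le hW.1.2 hWN)
        (hM.gen_normalizer_ne_top hUt.pg hUne) (Subgroup.le_normalizer (hNUt hh)))
  refine ⟨Z ⊓ Ct, ⟨hζW, hζt⟩, hU.pg.to_le (inf_le_left.trans inf_le_left), inf_le_right, ?_⟩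
  exact fun h hh => mem_normalizer_inf
    (mem_normalizer_inf (hM.core_norm hU hC hCW (hCtW hh))
      (mem_normalizer_centralizer (hCtW hh))) (Subgroup.le_normalizer hh)

/-- An element of an odd normal subgroup of `C(t)` lies in its odd core. -/
theorem mem_oddCore {N : Subgroup G} {x : centralizer ({t} : Set G)}
    (hN : N ≤ centralizer ({t} : Set G))
    (hn : centralizer ({t} : Set G) ≤ normalizer (N : Set G)) (hodd : Odd (Nat.card N))
    (hx : (x : G) ∈ N) : x ∈ Cfsg.oddCore (centralizer ({t} : Set G)) := by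
  refine InvChar.Core.le_oddCore ((normal_subgroupOf_iff_le_normalizer hN).2 hn) ?_ hx
  rwa [Nat.card_congr (subgroupOfEquivOfLe hN).toEquiv]

/-- Products of `t` with elements of members have the value of `t`. -/
theorem exists_section (hM : Min p q D) (ht : orderOf t = 2) (hC : C ∈ D)
    (hc : C ≤ centralizer ({t} : Set G)) (hE : E ∈ D) (hEc : E ≤ centralizer ({t} : Set G))
    (hne : C ≠ E) (hB : B ∈ D) {b : G} (hb : b ∈ B) :
    ∃ g : G, ∃ v ∈ Cfsg.oddCore (centralizer ({t} : Set G)),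
      g * (t * b) * g⁻¹ = t * ((v : centralizer ({t} : Set G)) : G) := by
  have ht1 : t ≠ 1 := fun h => by rw [h, orderOf_one] at ht; exact absurd ht (by norm_num)
  have ht2 : t * t = 1 := by rw [← pow_two, ← ht, pow_orderOf_eq_one]
  set Ct := centralizer ({t} : Set G)
  obtain ⟨Ut, hUt⟩ := hM.good (gen D Ct) (hM.gen_centralizer_ne_top ht1) gen_gen
  have hMt : ∀ x : Ct, (x : G) ∈ gen D Ct → x ∈ Cfsg.oddCore Ct := fun x hx =>
    mem_oddCore gen_le (Subgroup.le_normalizer.trans (normalizer_le_gen hM.toPre))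
      (odd_card_of_core hM.toSys hUt hC (le_gen hC hc)) hx
  by_cases hBc : B ≤ Ct
  · exact ⟨1, ⟨b, hBc hb⟩, hMt _ (le_gen hB hBc hb), by simp⟩
  have hmove : conjS t B ≠ B := fun h => hBc (hM.consistent ht2 hC hB hc h)
  obtain ⟨C₀, hC₀, hC₀L, hfix⟩ := hM.exists_fixed_on_line ht2 hB hmove
  have hC₀c := hM.consistent ht2 hC hC₀ hc hfix
  have hBC₀ : B ≠ C₀ := fun h => hmove (by rw [h, hfix])
  have hLeq : B ⊔ C₀ = B ⊔ conjS t B :=
    hM.closed B hB _ (hM.inv B hB t) (Ne.symm hmove) B hB C₀ hC₀ hBC₀ le_sup_left hC₀L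
  obtain ⟨Q, hQ⟩ := hM.exists_line_core hB hC₀ hBC₀
  have htL : conjS t (B ⊔ C₀) = B ⊔ C₀ := by rw [hLeq, conjS_pair ht2]
  have huniq : ∀ X ∈ D, X ≤ B ⊔ C₀ → conjS t X = X → X = C₀ := by
    intro X hX hXL hXfix
    by_contra hX0
    refine hBc ((le_sup_left (b := C₀)).trans ?_)
    rw [← hM.closed B hB C₀ hC₀ hBC₀ X hX C₀ hC₀ hX0 hXL le_sup_right]
    exact sup_le (hM.consistent ht2 hC hX hc hXfix) hC₀c
  obtain ⟨w, hw, rfl⟩ := hM.core_orbit hQ hC₀ le_sup_right hB le_sup_left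
  have hb' : w⁻¹ * b * w ∈ C₀ := mem_conjS.1 hb
  obtain ⟨h, -, ζ, hζ, he⟩ := exists_twist hM.toSys hQ hC₀ le_sup_right ht2
    (hM.core_norm hQ hC₀ le_sup_right (conjS_eq_self_iff.1 htL))
    (fun x hx => hM.inverts_mod ht2 hQ htL hC₀ le_sup_right hfix huniq hx) hb' hw
  have hζt : ζ ∈ Ct := hM.fixes_zc ht2 hQ htL hC₀ le_sup_right hfix huniq hζ
  have hζcore : (⟨ζ, hζt⟩ : Ct) ∈ Cfsg.oddCore Ct := by
    by_cases hζ1 : ζ = 1
    · subst hζ1; exact one_mem _
    obtain ⟨E₀, hE₀, hE₀c, hne₀⟩ : ∃ E₀ ∈ D, E₀ ≤ Ct ∧ C₀ ≠ E₀ := by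
      by_cases h : C₀ = C
      · exact ⟨E, hE, hEc, h ▸ hne⟩
      · exact ⟨C, hC, hc, h⟩
    obtain ⟨N, hN, hNq, hNle, hNn⟩ := hM.exists_normal_q ht2 hC₀ hC₀c hE₀ hE₀c hne₀ hB hBC₀ hQ
      hζ hζt hζ1 ht1
    exact mem_oddCore hNle hNn (odd_card_of_isPGroup hM.toSys hNq) hN
  refine ⟨h, ⟨ζ, hζt⟩ * ⟨w⁻¹ * b * w, hC₀c hb'⟩,
    mul_mem hζcore (hMt _ (le_gen hC₀ hC₀c hb')), ?_⟩
  rw [show w * (w⁻¹ * b * w) * w⁻¹ = b by group] at he
  exact he

/-- No involution centralises two members. -/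
theorem not_cent_two (hM : Min p q D) (ht : orderOf t = 2) (hC : C ∈ D)
    (hc : C ≤ centralizer ({t} : Set G)) (hE : E ∈ D) (hEc : E ≤ centralizer ({t} : Set G)) :
    C = E := by
  classical
  by_contra hne
  haveI := Fintype.ofFinite G
  haveI := Fintype.ofFinite (Cfsg.IrrCharacter G)
  obtain ⟨M, hMod⟩ := BlockCharsA.DefectZeroVanish.exists_modular Nat.prime_two
  obtain ⟨a, ha, ha1, hza⟩ := exists_generator hM.hp (hM.card C hC)
  have hodd : ¬ 2 ∣ Nat.card (Cfsg.oddCore (centralizer ({t} : Set G))) := by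
    rw [← even_iff_two_dvd, Nat.not_even_iff_odd]
    exact InvChar.Core.odd_card_oddCore
  haveI : (Cfsg.oddCore (centralizer ({t} : Set G))).Normal := ZStar.Main.oddCore_normal
  have hval : ∀ χ ∈ Cfsg.principalBlock M G, ∀ x : G,
      (χ : G → ℂ) (t * (x * a * x⁻¹)) = (χ : G → ℂ) t := by
    intro χ hχ x
    obtain ⟨g, v, hv, he⟩ := hM.exists_section ht hC hc hE hEc hne (hM.inv C hC x)
      (conj_mem_conjS x ha)
    rw [← irr_isClassFunction χ _ g, he]
    exact value_mul_of_mem hMod ⟨1, by rw [ht, pow_one]⟩ hχ hodd hv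
  have horth := sum_block_reg_sing hMod (intEl_blockIdem hMod (isPBlock_principal M G))
    (x := 1) (y := t) (by simp) (by rw [ht])
  rw [ZStar.Principal.finsum_mem_eq_sum_filter] at horth
  set S := Finset.univ.filter fun χ : Cfsg.IrrCharacter G => χ ∈ Cfsg.principalBlock M G
  have hoS : trivIrr G ∈ S :=
    Finset.mem_filter.2 ⟨Finset.mem_univ _, trivIrr_mem_principal hMod⟩
  rw [← Finset.add_sum_erase _ _ hoS] at horth
  obtain ⟨χ, hχ, hχt⟩ : ∃ χ ∈ S.erase (trivIrr G), (χ : G → ℂ) t ≠ 0 := by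
    by_contra hex
    push Not at hex
    rw [Finset.sum_eq_zero fun χ hχ => by rw [hex χ hχ, map_zero, mul_zero]] at horth
    simp [trivIrr] at horth
  obtain ⟨hχ1, hχS⟩ := Finset.mem_erase.1 hχ
  have h := sum_mul_conjugates χ.2 t a
  rw [Finset.sum_congr rfl fun x _ => hval χ (Finset.mem_filter.1 hχS).2 x, Finset.sum_const,
    Finset.card_univ, nsmul_eq_mul, ← Nat.card_eq_fintype_card,
    eq_div_iff (irr_one_ne_zero χ.2)] at h
  have hχa : (χ : G → ℂ) a = (χ : G → ℂ) 1 :=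
    (mul_left_cancel₀ (mul_ne_zero natCard_ne_zero hχt) (by linear_combination h)).symm
  set K := charKernel (χ : G → ℂ) (irr_isCharacter χ) with hK
  haveI : K.Normal := charKernel_normal _
  have hCK : C ≤ K := hza ▸ zpowers_le.2 (mem_charKernel.2 hχa)
  have htop : (⊤ : Subgroup G) ≤ K := hM.top ▸ sSup_le fun B hB => by
    obtain ⟨g, -, rfl⟩ := hM.orbit (H := ⊤) hC le_top hB le_top
    exact (conjS_mono g hCK).trans_eq
      (conjS_eq_of_le_normalizer le_normalizer_of_normal (mem_top g))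
  have hconst : ∀ g, (χ : G → ℂ) g = (χ : G → ℂ) 1 := fun g => mem_charKernel.1 (htop (mem_top g))
  have h0 := classInner_isIrr_ne χ.2 (trivIrr G).2 fun e => hχ1 (Subtype.ext e)
  rw [classInner_def, Finset.sum_congr rfl fun g _ => show
    (χ : G → ℂ) g * (starRingEnd ℂ) (((trivIrr G : Cfsg.IrrCharacter G) : G → ℂ) g) =
      (χ : G → ℂ) 1 by rw [hconst g]; simp [trivIrr], Finset.sum_const, Finset.card_univ,
    nsmul_eq_mul, ← Nat.card_eq_fintype_card] at h0
  rw [← mul_assoc, inv_mul_cancel₀ natCard_ne_zero, one_mul] at h0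
  exact irr_one_ne_zero χ.2 h0

end Min

end Cfsg.Agent.DistribPairs
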