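import Mathlib

/-!
# Conjugates of subgroups, and a prime order group acting on a `q`-group

Elementary facts used for groups generated by subgroups of prime order.
-/

set_option autoImplicit false
set_option linter.unusedSectionVars false
set_option linter.style.haveILetI false

namespace Cfsg.Agent.DistribPairs

open Subgroup
open scoped commutatorElement

variable {G : Type*} [Group G]

/-- The conjugate `g A g⁻¹`. -/
def conjS (g : G) (A : Subgroup G) : Subgroup G := A.map (MulAut.conj g).toMonoidHom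

theorem mem_conjS {g x : G} {A : Subgroup G} : x ∈ conjS g A ↔ g⁻¹ * x * g ∈ A := by
  constructor
  · rintro ⟨a, ha, rfl⟩
    simpa [mul_assoc] using ha
  · intro h
    exact ⟨g⁻¹ * x * g, h, by simp [mul_assoc]⟩

theorem conj_mem_conjS (g : G) {x : G} {A : Subgroup G} (hx : x ∈ A) :
    g * x * g⁻¹ ∈ conjS g A :=
  mem_conjS.2 (by simpa [mul_assoc] using hx)

theorem conjS_one (A : Subgroup G) : conjS 1 A = A := by
  ext x
  simp [mem_conjS]

theorem conjS_mul (g h : G) (A : Subgroup G) : conjS (g * h) A = conjS g (conjS h A) := by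
  ext x
  simp [mem_conjS, mul_assoc]

theorem conjS_inv_conjS (g : G) (A : Subgroup G) : conjS g⁻¹ (conjS g A) = A := by
  rw [← conjS_mul, inv_mul_cancel, conjS_one]

theorem conjS_conjS_inv (g : G) (A : Subgroup G) : conjS g (conjS g⁻¹ A) = A := by
  rw [← conjS_mul, mul_inv_cancel, conjS_one]

theorem conjS_mono (g : G) {A B : Subgroup G} (h : A ≤ B) : conjS g A ≤ conjS g B :=
  Subgroup.map_mono h

theorem conjS_sup (g : G) (A B : Subgroup G) : conjS g (A ⊔ B) = conjS g A ⊔ conjS g B :=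
  Subgroup.map_sup ..

theorem conjS_inj (g : G) {A B : Subgroup G} : conjS g A = conjS g B ↔ A = B :=
  ⟨fun h => by rw [← conjS_inv_conjS g A, h, conjS_inv_conjS], fun h => h ▸ rfl⟩

theorem conjS_bot (g : G) : conjS g (⊥ : Subgroup G) = ⊥ := Subgroup.map_bot _

theorem conjS_top (g : G) : conjS g (⊤ : Subgroup G) = ⊤ :=
  eq_top_iff.2 fun x _ => mem_conjS.2 trivial

theorem card_conjS (g : G) (A : Subgroup G) : Nat.card ↥(conjS g A) = Nat.card ↥A :=
  Subgroup.card_map_of_injective (MulAut.conj g).injective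

theorem isPGroup_conjS {q : ℕ} (g : G) {A : Subgroup G} (h : IsPGroup q A) :
    IsPGroup q ↥(conjS g A) :=
  h.map _

theorem conjS_eq_self_iff {g : G} {A : Subgroup G} :
    conjS g A = A ↔ g ∈ normalizer (A : Set G) :=
  mem_normalizer_iff_map_conj_eq.symm

theorem conjS_eq_of_le_normalizer {H A : Subgroup G} (h : H ≤ normalizer (A : Set G)) {g : G}
    (hg : g ∈ H) : conjS g A = A :=
  conjS_eq_self_iff.2 (h hg)

theorem conjS_le_of_mem {H A : Subgroup G} {g : G} (hg : g ∈ H) (hA : A ≤ H) : conjS g A ≤ H :=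
  fun x hx => by
    have := mul_mem (mul_mem hg (hA (mem_conjS.1 hx))) (inv_mem hg)
    simpa [mul_assoc] using this

theorem conjS_self {H : Subgroup G} {g : G} (hg : g ∈ H) : conjS g H = H :=
  conjS_eq_self_iff.2 (Subgroup.le_normalizer hg)

theorem conjS_centralizer (g : G) (A : Subgroup G) :
    conjS g (centralizer (A : Set G)) = centralizer (conjS g A : Set G) := by
  ext x
  simp only [mem_conjS, mem_centralizer_iff, SetLike.mem_coe]
  constructor
  · intro h y hy
    have := congrArg (fun z => g * z * g⁻¹) (h _ hy)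
    simpa [mul_assoc] using this
  · intro h y hy
    have := congrArg (fun z => g⁻¹ * z * g) (h (g * y * g⁻¹) (by simpa [mul_assoc] using hy))
    simpa [mul_assoc] using this

/-- A product decomposition in `U ⊔ A`. -/
theorem exists_mul_of_mem_sup {U A : Subgroup G} (hA : A ≤ normalizer (U : Set G)) {x : G}
    (hx : x ∈ U ⊔ A) : ∃ u ∈ U, ∃ a ∈ A, u * a = x := by
  have h := coe_mul_of_right_le_normalizer_left U A hA
  rw [← SetLike.mem_coe, h] at hx
  obtain ⟨u, hu, a, ha, rfl⟩ := Set.mem_mul.1 hx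
  exact ⟨u, hu, a, ha, rfl⟩

theorem sup_le_normalizer {U A : Subgroup G} (hA : A ≤ normalizer (U : Set G)) :
    U ⊔ A ≤ normalizer (U : Set G) :=
  sup_le Subgroup.le_normalizer hA

theorem mem_normalizer_sup {X Y : Subgroup G} {g : G} (hX : g ∈ normalizer (X : Set G))
    (hY : g ∈ normalizer (Y : Set G)) : g ∈ normalizer ((X ⊔ Y : Subgroup G) : Set G) :=
  conjS_eq_self_iff.1 (by
    rw [conjS_sup, conjS_eq_self_iff.2 hX, conjS_eq_self_iff.2 hY])

theorem le_normalizer_sup' {H X Y : Subgroup G} (hX : H ≤ normalizer (X : Set G))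
    (hY : H ≤ normalizer (Y : Set G)) : H ≤ normalizer ((X ⊔ Y : Subgroup G) : Set G) :=
  fun _ hg => mem_normalizer_sup (hX hg) (hY hg)

theorem mem_normalizer_inf {X Y : Subgroup G} {g : G} (hX : g ∈ normalizer (X : Set G))
    (hY : g ∈ normalizer (Y : Set G)) : g ∈ normalizer ((X ⊓ Y : Subgroup G) : Set G) := by
  rw [← conjS_eq_self_iff] at hX hY ⊢
  ext x
  rw [mem_conjS, mem_inf, mem_inf]
  conv_rhs => rw [← hX, ← hY, mem_conjS, mem_conjS]

theorem mem_normalizer_centralizer {X : Subgroup G} {g : G} (hX : g ∈ normalizer (X : Set G)) :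
    g ∈ normalizer ((centralizer (X : Set G) : Subgroup G) : Set G) := by
  rw [← conjS_eq_self_iff] at hX ⊢
  rw [conjS_centralizer, hX]

/-- Powers in `U ⊔ A` are computed in `A` modulo `U`. -/
theorem pow_mul_mem {U : Subgroup G} {u a : G} (ha : a ∈ normalizer (U : Set G)) (hu : u ∈ U)
    (n : ℕ) : (u * a) ^ n * (a ^ n)⁻¹ ∈ U := by
  induction n with
  | zero => simp
  | succ n ih =>
    have h1 : a ^ n * u * (a ^ n)⁻¹ ∈ U := (mem_normalizer_iff.1 (pow_mem ha n) u).1 hu
    have h := mul_mem ih h1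
    convert h using 1
    rw [pow_succ, pow_succ]
    group

variable [Finite G]

theorem eq_of_le_of_card {A B : Subgroup G} (h : A ≤ B) (hc : Nat.card A = Nat.card B) : A = B :=
  Subgroup.eq_of_le_of_card_ge h hc.ge

/-- An element of `q`-power order whose `p`-th power lies in `U` lies in `U`. -/
theorem mem_of_pow_mem {p q : ℕ} (hp : p.Prime) (hq : q.Prime) (hpq : p ≠ q) {U : Subgroup G}
    {x : G} {k : ℕ} (hx : x ^ q ^ k = 1) (hxp : x ^ p ∈ U) : x ∈ U := by
  have hco : (orderOf x).Coprime p :=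
    Nat.Coprime.coprime_dvd_left (orderOf_dvd_of_pow_eq_one hx)
      (((Nat.coprime_primes hq hp).2 (Ne.symm hpq)).pow_left k)
  obtain ⟨m, hm⟩ := exists_pow_eq_self_of_coprime hco.symm
  exact hm ▸ pow_mem hxp m

theorem mem_of_pow_pow_mem {p q : ℕ} (hp : p.Prime) (hq : q.Prime) (hpq : p ≠ q) {U : Subgroup G}
    {a : G} (hap : a ^ p = 1) {k : ℕ} (hx : a ^ q ^ k ∈ U) : a ∈ U := by
  have hco : (orderOf a).Coprime (q ^ k) :=
    Nat.Coprime.coprime_dvd_left (orderOf_dvd_of_pow_eq_one hap)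
      (((Nat.coprime_primes hp hq).2 hpq).pow_right k)
  obtain ⟨m, hm⟩ := exists_pow_eq_self_of_coprime hco.symm
  exact hm ▸ pow_mem hx m

/-- `q`-subgroups of `U ⊔ A` lie in `U`, for a `p`-group `A` of exponent `p`. -/
theorem le_of_isPGroup_sup {p q : ℕ} (hp : p.Prime) (hq : q.Prime) (hpq : p ≠ q)
    {U A X : Subgroup G} (hA : A ≤ normalizer (U : Set G)) (hexp : ∀ a ∈ A, a ^ p = 1)
    (hX : IsPGroup q X) (hle : X ≤ U ⊔ A) : X ≤ U := by
  intro x hx
  obtain ⟨k, hk⟩ := hX ⟨x, hx⟩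
  have hk' : x ^ q ^ k = 1 := by
    simpa using congrArg Subtype.val hk
  refine mem_of_pow_mem hp hq hpq hk' ?_
  obtain ⟨u, hu, a, ha, rfl⟩ := exists_mul_of_mem_sup hA (hle hx)
  have := pow_mul_mem (hA ha) hu p
  rwa [hexp a ha, inv_one, mul_one] at this

theorem pow_card_eq_one_of_mem {A : Subgroup G} {p : ℕ} (hA : Nat.card A = p) {a : G}
    (ha : a ∈ A) : a ^ p = 1 :=
  orderOf_dvd_iff_pow_eq_one.1 (hA ▸ Subgroup.orderOf_dvd_natCard A ha)

theorem zpowers_eq_of_card_prime {A : Subgroup G} {p : ℕ} (hp : p.Prime) (hA : Nat.card A = p)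
    {a : G} (ha : a ∈ A) (ha1 : a ≠ 1) : zpowers a = A := by
  refine eq_of_le_of_card (zpowers_le.2 ha) ?_
  rw [Nat.card_zpowers, hA]
  haveI := Fact.mk hp
  exact orderOf_eq_prime (pow_card_eq_one_of_mem hA ha) ha1

theorem inf_eq_bot_of_card_prime {A X : Subgroup G} {p : ℕ} (hp : p.Prime) (hA : Nat.card A = p)
    (h : ¬ A ≤ X) : A ⊓ X = ⊥ := by
  rw [Subgroup.eq_bot_iff_forall]
  intro a ha
  by_contra ha1
  exact h (zpowers_eq_of_card_prime hp hA ha.1 ha1 ▸ zpowers_le.2 ha.2)

theorem exists_generator {A : Subgroup G} {p : ℕ} (hp : p.Prime) (hA : Nat.card A = p) :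
    ∃ a ∈ A, a ≠ 1 ∧ zpowers a = A := by
  obtain ⟨a, ha, ha1⟩ := (Subgroup.nontrivial_iff_exists_ne_one A).1
    (Finite.one_lt_card_iff_nontrivial.1 (hA.symm ▸ hp.one_lt))
  exact ⟨a, ha, ha1, zpowers_eq_of_card_prime hp hA ha ha1⟩

theorem isPGroup_of_card_prime {A : Subgroup G} {p : ℕ} (hA : Nat.card A = p) : IsPGroup p A :=
  IsPGroup.of_card (n := 1) (by rw [hA, pow_one])

/-- A group normalising a subgroup of prime order, both of order `p`, centralises it. -/
theorem le_centralizer_of_le_normalizer {A B : Subgroup G} {p : ℕ} (hp : p.Prime)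
    (hA : Nat.card A = p) (hB : Nat.card B = p) (h : A ≤ normalizer (B : Set G)) :
    A ≤ centralizer (B : Set G) := by
  intro a ha
  haveI := Fact.mk hp
  haveI : IsCyclic B := isCyclic_of_prime_card hB
  set φ := B.normalizerMonoidHom
  set x : normalizer (B : Set G) := ⟨a, h ha⟩
  have h1 : φ x = 1 := by
    rw [← orderOf_eq_one_iff]
    have hd1 : orderOf (φ x) ∣ p := (orderOf_map_dvd φ x).trans
      (orderOf_dvd_of_pow_eq_one (Subtype.ext (pow_card_eq_one_of_mem hA ha)))
    have hd2 : orderOf (φ x) ∣ p - 1 := by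
      refine (_root_.orderOf_dvd_natCard _).trans ?_
      rw [IsCyclic.card_mulAut, hB, Nat.totient_prime hp]
    refine ((Nat.dvd_prime hp).1 hd1).resolve_right fun he => ?_
    have := Nat.le_of_dvd (by have := hp.two_le; omega) (he ▸ hd2)
    have := hp.two_le
    omega
  have : x ∈ φ.ker := h1
  rw [normalizerMonoidHom_ker, mem_subgroupOf] at this
  exact this

/-- Fixed points of a `p`-group conjugating a set of subgroups. -/
theorem count_mod {p : ℕ} [Fact p.Prime] {P : Subgroup G} (hP : IsPGroup p P)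
    (O : Set (Subgroup G)) (hO : ∀ g ∈ P, ∀ C ∈ O, conjS g C ∈ O) :
    O.ncard ≡ {C ∈ O | ∀ g ∈ P, conjS g C = C}.ncard [MOD p] := by
  letI : MulAction P O :=
    { smul := fun g C => ⟨conjS (g : G) C.1, hO g g.2 C.1 C.2⟩
      one_smul := fun C => Subtype.ext (conjS_one _)
      mul_smul := fun g h C => Subtype.ext (conjS_mul _ _ _) }
  have h := hP.card_modEq_card_fixedPoints (α := O)
  rw [Nat.card_coe_set_eq] at h
  suffices he : Nat.card (MulAction.fixedPoints P O) =
      {C ∈ O | ∀ g ∈ P, conjS g C = C}.ncard from he ▸ h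
  rw [← Nat.card_coe_set_eq]
  exact Nat.card_congr
    { toFun := fun C => ⟨C.1.1, C.1.2, fun g hg => congrArg Subtype.val (C.2 ⟨g, hg⟩)⟩
      invFun := fun C => ⟨⟨C.1, C.2.1⟩, fun g => Subtype.ext (C.2.2 g g.2)⟩
      left_inv := fun _ => rfl
      right_inv := fun _ => rfl }

/-- The size of the set of conjugates under a `q`-group is a power of `q`. -/
theorem ncard_orbit {q : ℕ} [Fact q.Prime] {U : Subgroup G} (hU : IsPGroup q U) (A : Subgroup G) :
    ∃ n : ℕ, {C : Subgroup G | ∃ u ∈ U, conjS u A = C}.ncard = q ^ n := by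
  letI : MulAction U (Subgroup G) :=
    { smul := fun g C => conjS (g : G) C
      one_smul := fun C => conjS_one _
      mul_smul := fun g h C => conjS_mul _ _ _ }
  obtain ⟨n, hn⟩ := hU.card_orbit A
  refine ⟨n, ?_⟩
  rw [← hn, ← Nat.card_coe_set_eq]
  exact Nat.card_congr (Equiv.setCongr (by
    ext C
    exact ⟨fun ⟨u, hu, h⟩ => ⟨⟨u, hu⟩, h⟩, fun ⟨u, h⟩ => ⟨u, u.2, h⟩⟩))

end Cfsg.Agent.DistribPairs
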