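import Cfsg.Agent.Lib.DistribPairs.Conj

/-!
# A prime order group generating a group with its conjugates under a normalised subgroup

If `U ⊔ A` is generated by the conjugates of `A` under `U`, then `x ↦ ⁅a, x⁆` is a bijection of
`U / U'`.
-/

set_option autoImplicit false
set_option linter.unusedSectionVars false
set_option linter.style.haveILetI false

namespace Cfsg.Agent.DistribPairs

open Subgroup
open scoped commutatorElement

variable {G : Type*} [Group G]

theorem le_commutator_of_gen {U A : Subgroup G} (hA : A ≤ normalizer (U : Set G))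
    (hinf : A ⊓ U = ⊥) (hgen : U ≤ sSup {C : Subgroup G | ∃ u ∈ U, conjS u A = C}) :
    U ≤ ⁅A, U⁆ := by
  have hle : ⁅A, U⁆ ≤ U := le_normalizer_iff_commutator_le_right.1 hA
  have hN : A ≤ normalizer ((⁅A, U⁆ : Subgroup G) : Set G) := normalizer_commutator_ge_left A U
  have h1 : sSup {C : Subgroup G | ∃ u ∈ U, conjS u A = C} ≤ ⁅A, U⁆ ⊔ A := by
    refine sSup_le ?_
    rintro C ⟨u, hu, rfl⟩ x hx
    rw [mem_conjS] at hx
    set y := u⁻¹ * x * u with hy
    have hxy : x = ⁅y, u⁆⁻¹ * y := by
      rw [commutatorElement_def, hy]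
      group
    rw [hxy]
    exact mul_mem (mem_sup_left (inv_mem (commutator_mem_commutator hx hu))) (mem_sup_right hx)
  intro u hu
  obtain ⟨k, hk, a, ha, rfl⟩ := exists_mul_of_mem_sup hN (h1 (hgen hu))
  have haU : a ∈ A ⊓ U := ⟨ha, by
    have := mul_mem (inv_mem (hle hk)) hu
    simpa [← mul_assoc] using this⟩
  rw [hinf, mem_bot] at haU
  simpa [haU] using hk

variable [Finite G]

/-- A subgroup above `U'` invariant under `a` is its own preimage under `x ↦ ⁅a, x⁆`. -/
theorem derived_inv {U A X : Subgroup G} (hA : A ≤ normalizer (U : Set G))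
    (hfull : U ≤ ⁅A, U⁆) {a : G} (ha : zpowers a = A) (hX' : ⁅U, U⁆ ≤ X)
    (hXa : a ∈ normalizer (X : Set G)) {n : G} (hn : n ∈ U) (h : ⁅a, n⁆ ∈ X) : n ∈ X := by
  have haA : a ∈ A := ha ▸ mem_zpowers a
  let α : U →* U := ((MulAut.conj a).toMonoidHom.comp U.subtype).codRestrict U fun u => by
    simpa using (mem_normalizer_iff.1 (hA haA) (u : G)).1 u.2
  have hα : ∀ u : U, (α u : G) = a * (u : G) * a⁻¹ := fun u => by simp [α]
  let o : U →* Abelianization U := Abelianization.of
  let f : U →* Abelianization U := o⁻¹ * o.comp α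
  have hf : ∀ u : U, f u = (o u)⁻¹ * o (α u) := fun u => rfl
  -- surjectivity
  have hsurj : Function.Surjective f := by
    have hS : ⁅A, U⁆ ≤ (f.range.comap o).map U.subtype := by
      rw [commutator_le]
      intro b hb u hu
      obtain ⟨i, rfl⟩ : ∃ i : ℕ, a ^ i = b :=
        Submonoid.mem_powers_iff _ _ |>.1
          (mem_powers_iff_mem_zpowers.2 (ha.symm ▸ hb : b ∈ zpowers a))
      clear hb
      induction i with
      | zero => simp
      | succ i ih =>
        obtain ⟨w, hw, hw'⟩ := ih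
        set v : U := w * ⟨u, hu⟩ with hv
        have hv' : (v : G) = a ^ i * u * (a ^ i)⁻¹ := by
          have : (w : G) = ⁅a ^ i, u⁆ := hw'
          rw [hv, Subgroup.coe_mul, this, commutatorElement_def]
          group
        refine ⟨α v * v⁻¹ * w, ?_, ?_⟩
        · show o (α v * v⁻¹ * w) ∈ f.range
          rw [map_mul]
          refine mul_mem ⟨v, ?_⟩ hw
          rw [hf v, map_mul o (α v) v⁻¹, map_inv o v, mul_comm]
        · have : (w : G) = ⁅a ^ i, u⁆ := hw'
          show ((α v * v⁻¹ * w : U) : G) = _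
          rw [Subgroup.coe_mul, Subgroup.coe_mul, Subgroup.coe_inv, hα, hv', this,
            commutatorElement_def, commutatorElement_def, pow_succ']
          group
    intro y
    obtain ⟨x, rfl⟩ := QuotientGroup.mk_surjective y
    obtain ⟨w, hw, hw'⟩ := hS (hfull x.2)
    rw [U.subtype_injective hw'] at hw
    exact hw
  have hker : f.ker = o.ker := by
    refine (eq_of_le_of_card ?_ ?_).symm
    · rw [Abelianization.ker_of]
      exact Abelianization.commutator_subset_ker f
    · have h1 := f.ker.card_mul_index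
      have h2 := o.ker.card_mul_index
      rw [Subgroup.index_ker, MonoidHom.range_eq_top.2 hsurj] at h1
      rw [Subgroup.index_ker,
        MonoidHom.range_eq_top.2 (QuotientGroup.mk_surjective)] at h2
      exact Nat.eq_of_mul_eq_mul_right Nat.card_pos (h2.trans h1.symm)
  set X' := X.subgroupOf U
  have hmaple : X'.map f ≤ X'.map o := by
    rintro _ ⟨x, hx, rfl⟩
    refine ⟨x⁻¹ * α x, mul_mem (inv_mem hx) ?_, by rw [map_mul, map_inv, hf]⟩
    show (α x : G) ∈ X
    rw [hα]
    exact (mem_normalizer_iff.1 hXa _).1 hx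
  have hmap : X'.map f = X'.map o := by
    refine eq_of_le_of_card hmaple ?_
    have hr : ∀ g : U →* Abelianization U, Nat.card (X'.map g) = (g.ker.subgroupOf X').index := by
      intro g
      rw [Subgroup.subgroupOf, MonoidHom.comap_ker, Subgroup.index_ker, MonoidHom.range_comp,
        Subgroup.range_subtype]
    rw [hr, hr, hker]
  obtain ⟨x, hx, hxn⟩ : f ⟨n, hn⟩ ∈ X'.map f := by
    rw [hmap]
    refine ⟨α ⟨n, hn⟩ * (⟨n, hn⟩ : U)⁻¹, ?_, ?_⟩
    · show ((α ⟨n, hn⟩ * (⟨n, hn⟩ : U)⁻¹ : U) : G) ∈ X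
      rw [Subgroup.coe_mul, Subgroup.coe_inv, hα, ← commutatorElement_def]
      exact h
    · rw [map_mul, map_inv, hf, mul_comm]
  have hd : x⁻¹ * ⟨n, hn⟩ ∈ o.ker := by
    rw [← hker, MonoidHom.mem_ker, map_mul, map_inv, hxn, inv_mul_cancel]
  rw [Abelianization.ker_of] at hd
  have hd' : ((x⁻¹ * ⟨n, hn⟩ : U) : G) ∈ ⁅U, U⁆ := by
    rw [← map_subtype_commutator]
    exact mem_map_of_mem _ hd
  simpa using mul_mem (show (x : G) ∈ X from hx) (hX' hd')

/-- Fixed points lie in the derived subgroup. -/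
theorem inf_centralizer_le_derived {U A : Subgroup G} (hA : A ≤ normalizer (U : Set G))
    (hfull : U ≤ ⁅A, U⁆) {a : G} (ha : zpowers a = A) :
    U ⊓ centralizer (A : Set G) ≤ ⁅U, U⁆ := by
  rintro n ⟨hn, hc⟩
  have haA : a ∈ A := ha ▸ mem_zpowers a
  refine derived_inv hA hfull ha le_rfl ?_ hn ?_
  · rw [← conjS_eq_self_iff, conjS, map_commutator]
    show ⁅conjS a U, conjS a U⁆ = _
    rw [conjS_eq_of_le_normalizer hA haA]
  · rw [commutatorElement_eq_one_iff_mul_comm.2 (mem_centralizer_iff.1 hc a haA)]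
    exact one_mem _

end Cfsg.Agent.DistribPairs
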