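import Cfsg.Agent.Lib.DistribPairs.Reduce
import Cfsg.Agent.Solvable.Basics

/-!
# Maximal subgroups generated by members in a minimal counterexample

`q`-subgroups normalised by a member `A` and maximal as such are conjugate under `C(A)` as soon as
they meet `C(A)`. As a consequence two maximal subgroups generated by members, with nontrivial
central part in their cores and linked by it, are equal if they share two members.
-/

set_option autoImplicit false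
set_option linter.unusedSectionVars false
set_option linter.style.haveILetI false

namespace Cfsg.Agent.DistribPairs

open Subgroup
open scoped commutatorElement

universe u

variable {G : Type u} [Group G] {D : Set (Subgroup G)} {p q : ℕ}

/-- A minimal counterexample. -/
structure Min (p q : ℕ) (D : Set (Subgroup G)) : Prop extends Sys p q D where
  top : sSup D = ⊤
  good : AllGood q D
  noq : ∀ R : Subgroup G, R.Normal → IsPGroup q R → R = ⊥
  cen : center G = ⊥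
  proper : ∀ A ∈ D, ∀ B ∈ D, A ⊔ B ≠ ⊤

/-- Maximal among the proper subgroups generated by members. -/
def MaxGood (D : Set (Subgroup G)) (W : Subgroup G) : Prop :=
  Maximal (fun H : Subgroup G => H ≠ ⊤ ∧ H ≤ gen D H) W

/-- A maximal one whose core has a nontrivial central part. -/
structure ZMax (q : ℕ) (D : Set (Subgroup G)) (W U : Subgroup G) : Prop where
  max : MaxGood D W
  core : IsCore q D W U
  zne : U ⊓ centralizer (W : Set G) ≠ ⊥

/-- Maximal among the `q`-subgroups normalised by `A`. -/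
def MaxInv (q : ℕ) (A Q : Subgroup G) : Prop :=
  Maximal (fun R : Subgroup G => IsPGroup q R ∧ A ≤ normalizer (R : Set G)) Q

theorem conjS_normalizer (g : G) (Q : Subgroup G) :
    conjS g (normalizer (Q : Set G)) = normalizer ((conjS g Q : Subgroup G) : Set G) := by
  ext x
  rw [mem_conjS, ← conjS_eq_self_iff, ← conjS_eq_self_iff, conjS_mul, conjS_mul,
    ← conjS_inj g, conjS_conjS_inv]

theorem inf_normalizer_ne {X Q : Subgroup G} {q : ℕ} [Fact q.Prime] [Finite G]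
    (hQ : IsPGroup q Q) (h : X < Q) : X < Q ⊓ normalizer (X : Set G) := by
  refine lt_of_le_of_ne (le_inf h.le Subgroup.le_normalizer) fun he => ?_
  haveI := hQ.isNilpotent
  have hlt : X.subgroupOf Q < ⊤ := lt_top_iff_ne_top.2 fun ht =>
    h.not_ge (subgroupOf_eq_top.1 ht)
  obtain ⟨x, hx, hxX⟩ := SetLike.exists_of_lt (Group.normalizerCondition_of_isNilpotent _ hlt)
  refine hxX ?_
  show (x : G) ∈ X
  rw [he]
  refine ⟨x.2, conjS_eq_self_iff.1 (eq_of_le_of_card ?_ (card_conjS _ _))⟩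
  intro z hz
  have hw : (x : G)⁻¹ * z * x ∈ X := mem_conjS.1 hz
  have := (mem_normalizer_iff.1 hx ⟨_, h.le hw⟩).1 hw
  simpa [mem_subgroupOf, mul_assoc] using this

variable [Finite G]

/-- A nontrivial section of a `q`-group normalised by it has a fixed point. -/
theorem exists_fixed_coset {q : ℕ} [Fact q.Prime] {P U X : Subgroup G} (hP : IsPGroup q P)
    (hUP : U ≤ P) (hX : X < U) (hXn : P ≤ normalizer (X : Set G))
    (hUn : P ≤ normalizer (U : Set G)) : ∃ n ∈ U, n ∉ X ∧ ∀ g ∈ P, ⁅g, n⁆ ∈ X := by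
  haveI : (X.subgroupOf P).Normal :=
    (normal_subgroupOf_iff_le_normalizer (hX.le.trans hUP)).2 hXn
  haveI : (U.subgroupOf P).Normal := (normal_subgroupOf_iff_le_normalizer hUP).2 hUn
  haveI := hP.isNilpotent
  set π := QuotientGroup.mk' (X.subgroupOf P) with hπ
  haveI : ((U.subgroupOf P).map π).Normal :=
    Normal.map inferInstance π (QuotientGroup.mk'_surjective _)
  have hne : (U.subgroupOf P).map π ≠ ⊥ := by
    rw [Ne, Subgroup.map_eq_bot_iff, hπ, QuotientGroup.ker_mk']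
    exact fun h => hX.not_ge fun u hu => h (show (⟨u, hUP hu⟩ : P) ∈ U.subgroupOf P from hu)
  obtain ⟨v, hv, hv1⟩ := (Subgroup.nontrivial_iff_exists_ne_one _).1
    ((Subgroup.nontrivial_iff_ne_bot _).2 (Solvable.Basics.inf_center_ne_bot hne))
  obtain ⟨w, hw, rfl⟩ := hv.1
  refine ⟨w, hw, fun h => hv1 ?_, fun g hg => ?_⟩
  · rw [hπ, QuotientGroup.mk'_apply, QuotientGroup.eq_one_iff]
    exact h
  · have : ⁅(⟨g, hg⟩ : P), w⁆ ∈ X.subgroupOf P := by
      rw [← QuotientGroup.eq_one_iff, ← QuotientGroup.mk'_apply, ← hπ, map_commutatorElement,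
        commutatorElement_eq_one_iff_mul_comm]
      exact mem_center_iff.1 hv.2 _
    exact this

/-- Two `q`-subgroups of `H` lie, up to conjugation in `H`, in one. -/
theorem exists_conj_le {q : ℕ} [Fact q.Prime] {H S₁ S₂ : Subgroup G} (h₁ : S₁ ≤ H) (h₂ : S₂ ≤ H)
    (q₁ : IsPGroup q S₁) (q₂ : IsPGroup q S₂) :
    ∃ c ∈ H, ∃ S : Subgroup G, IsPGroup q S ∧ S ≤ H ∧ conjS c S₁ ≤ S ∧ S₂ ≤ S := by
  obtain ⟨P₁, hP₁⟩ := (q₁.of_equiv (subgroupOfEquivOfLe h₁).symm).exists_le_sylow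
  obtain ⟨P₂, hP₂⟩ := (q₂.of_equiv (subgroupOfEquivOfLe h₂).symm).exists_le_sylow
  obtain ⟨c, hc⟩ := MulAction.exists_smul_eq H P₁ P₂
  refine ⟨c, c.2, (P₂ : Subgroup H).map H.subtype, P₂.2.map _, map_subtype_le _, ?_,
    fun x hx => ⟨⟨x, h₂ hx⟩, hP₂ hx, rfl⟩⟩
  intro x hx
  have hw := mem_conjS.1 hx
  refine ⟨c * ⟨_, h₁ hw⟩ * c⁻¹, ?_, by simp [mul_assoc]⟩
  rw [← hc, Sylow.coe_subgroup_smul]
  exact ⟨_, hP₁ hw, rfl⟩

theorem MaxInv.exists_le {q : ℕ} {A R : Subgroup G} (hR : IsPGroup q R)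
    (hA : A ≤ normalizer (R : Set G)) : ∃ Q, MaxInv q A Q ∧ R ≤ Q := by
  obtain ⟨Q, hRQ, hQ⟩ := Set.Finite.exists_le_maximal
    (Set.toFinite {R : Subgroup G | IsPGroup q R ∧ A ≤ normalizer (R : Set G)}) (a := R) ⟨hR, hA⟩
  exact ⟨Q, hQ, hRQ⟩

theorem MaxInv.conj {q : ℕ} {A Q : Subgroup G} (hQ : MaxInv q A Q) {c : G}
    (hc : c ∈ centralizer (A : Set G)) : MaxInv q A (conjS c Q) := by
  have hcA : conjS c A = A := conjS_eq_self_iff.2 (centralizer_le_normalizer _ hc)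
  have hcA' : conjS c⁻¹ A = A := conjS_eq_self_iff.2 (centralizer_le_normalizer _ (inv_mem hc))
  refine ⟨⟨isPGroup_conjS c hQ.1.1, ?_⟩, fun R hR hle => ?_⟩
  · rw [← conjS_normalizer, ← hcA]
    exact conjS_mono c hQ.1.2
  · have h := hQ.2 (y := conjS c⁻¹ R) ⟨isPGroup_conjS _ hR.1, by
      rw [← conjS_normalizer, ← hcA']
      exact conjS_mono _ hR.2⟩ (by
      rw [← conjS_inv_conjS c Q]
      exact conjS_mono _ hle)
    rw [← conjS_conjS_inv c R]
    exact conjS_mono c h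

theorem MaxInv.eq_of_le {q : ℕ} {A Q Q' : Subgroup G} (hQ : MaxInv q A Q) (hQ' : MaxInv q A Q')
    (h : Q ≤ Q') : Q = Q' :=
  le_antisymm h (hQ.2 hQ'.1 h)

namespace Min

variable {A B W W₁ W₂ U U₁ U₂ R Q : Subgroup G}

theorem gen_normalizer_ne_top (hM : Min p q D) (hR : IsPGroup q R) (hne : R ≠ ⊥) :
    gen D (normalizer (R : Set G)) ≠ ⊤ := fun h =>
  hne (hM.noq R (normalizer_eq_top_iff.1 (eq_top_iff.2 (h ▸ gen_le))) hR)

theorem gen_centralizer_ne_top (hM : Min p q D) {x : G} (hx : x ≠ 1) :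
    gen D (centralizer ({x} : Set G)) ≠ ⊤ := fun h => by
  have : x ∈ center G := mem_center_iff.2 fun g =>
    mem_centralizer_singleton_iff.1 ((h ▸ gen_le : (⊤ : Subgroup G) ≤ _) (mem_top g))
  rw [hM.cen, mem_bot] at this
  exact hx this

theorem exists_maxGood (hM : Min p q D) {H : Subgroup G} (hH : H ≠ ⊤) (hgen : H ≤ gen D H) :
    ∃ W U, MaxGood D W ∧ IsCore q D W U ∧ H ≤ W := by
  obtain ⟨W, hHW, hW⟩ := Set.Finite.exists_le_maximal
    (Set.toFinite {H : Subgroup G | H ≠ ⊤ ∧ H ≤ gen D H}) (a := H) ⟨hH, hgen⟩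
  obtain ⟨U, hU⟩ := hM.good W hW.1.1 hW.1.2
  exact ⟨W, U, hW, hU, hHW⟩

theorem eq_gen (hW : MaxGood D W) {S : Subgroup G} (h : W ≤ gen D S) (hS : gen D S ≠ ⊤) :
    W = gen D S :=
  le_antisymm h (hW.2 ⟨hS, gen_gen⟩ h)

theorem normalizer_le_of_le (hM : Min p q D) (hW : MaxGood D W) {S : Subgroup G}
    (h : W ≤ gen D S) (hS : gen D S ≠ ⊤) : normalizer (S : Set G) ≤ normalizer (W : Set G) := by
  rw [eq_gen hW h hS]
  exact normalizer_le_gen hM.toPre

theorem eq_of_le_maxGood (hW : MaxGood D W) (hW' : MaxGood D W₁) (h : W ≤ W₁) : W = W₁ :=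
  le_antisymm h (hW.2 hW'.1 h)

/-- An element centralising `W` pins `W` down. -/
theorem eq_gen_centralizer (hM : Min p q D) (hW : MaxGood D W) {x : G}
    (hx : x ∈ centralizer (W : Set G)) (hx1 : x ≠ 1) : W = gen D (centralizer ({x} : Set G)) := by
  refine eq_gen hW (le_gen_of_le hW.1.2 fun w hw => ?_) (hM.gen_centralizer_ne_top hx1)
  exact mem_centralizer_singleton_iff.2 (mem_centralizer_iff.1 hx w hw)

theorem centralizer_le_normalizer' (hM : Min p q D) (hW : MaxGood D W) {x : G}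
    (hx : x ∈ centralizer (W : Set G)) (hx1 : x ≠ 1) :
    centralizer ({x} : Set G) ≤ normalizer (W : Set G) := by
  rw [hM.eq_gen_centralizer hW hx hx1]
  exact Subgroup.le_normalizer.trans (normalizer_le_gen hM.toPre)

theorem conjS_gen (hM : Min p q D) (g : G) (H : Subgroup G) :
    conjS g (gen D H) = gen D (conjS g H) := by
  have key : ∀ (g : G) (H : Subgroup G), conjS g (gen D H) ≤ gen D (conjS g H) := by
    intro g H
    rw [conjS, map_le_iff_le_comap]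
    exact sSup_le fun C hC => map_le_iff_le_comap.1
      (le_gen (hM.inv C hC.1 g) (conjS_mono g hC.2))
  refine le_antisymm (key g H) ?_
  have h := conjS_mono g (key g⁻¹ (conjS g H))
  rwa [conjS_inv_conjS, conjS_conjS_inv] at h

theorem zmax_conj (hM : Min p q D) (hW : ZMax q D W U) (g : G) :
    ZMax q D (conjS g W) (conjS g U) := by
  refine ⟨⟨⟨fun h => hW.max.1.1 ?_, ?_⟩, fun H hH hle => ?_⟩, hM.core_conj hW.core g, ?_⟩
  · rw [← conjS_inv_conjS g W, h, conjS_top]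
  · rw [← hM.conjS_gen]
    exact conjS_mono g hW.max.1.2
  · have h := hW.max.2 (y := conjS g⁻¹ H) ⟨fun h => hH.1 (by rw [← conjS_conjS_inv g H, h, conjS_top]),
      by rw [← hM.conjS_gen]; exact conjS_mono _ hH.2⟩ (by
      rw [← conjS_inv_conjS g W]; exact conjS_mono _ hle)
    rw [← conjS_conjS_inv g H]
    exact conjS_mono g h
  · rw [← conjS_centralizer, conjS, conjS, ← map_inf _ _ _ (MulAut.conj g).injective]
    exact fun h => hW.zne ((map_eq_bot_iff_of_injective _ (MulAut.conj g).injective).1 h)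

/-- Two invariant maximal `q`-subgroups meeting nontrivially are conjugate under `C(A)`. -/
theorem conj_of_inf (hM : Min p q D) (hA : A ∈ D) (D₀ : Subgroup G) :
    ∀ Q₁ Q₂ : Subgroup G, MaxInv q A Q₁ → MaxInv q A Q₂ → Q₁ ⊓ Q₂ = D₀ → D₀ ≠ ⊥ →
      ∃ c ∈ centralizer (A : Set G), conjS c Q₁ = Q₂ := by
  haveI := Fact.mk hM.hq
  induction D₀ using WellFoundedGT.induction with
  | ind D₀ ih =>
    intro Q₁ Q₂ h₁ h₂ hD hne
    by_cases he : Q₁ = Q₂
    · exact ⟨1, one_mem _, by rw [conjS_one, he]⟩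
    have hlt₁ : D₀ < Q₁ := lt_of_le_of_ne (hD ▸ inf_le_left) fun h =>
      he (h₁.eq_of_le h₂ (h ▸ hD ▸ inf_le_right))
    have hlt₂ : D₀ < Q₂ := lt_of_le_of_ne (hD ▸ inf_le_right) fun h =>
      he (h₂.eq_of_le h₁ (h ▸ hD ▸ inf_le_left)).symm
    set N := normalizer (D₀ : Set G) with hN
    have hD₀q : IsPGroup q D₀ := h₁.1.1.to_le hlt₁.le
    have hAN : A ≤ N := fun a ha => by
      rw [hN, ← hD]; exact mem_normalizer_inf (h₁.1.2 ha) (h₂.1.2 ha)
    set M := gen D N with hMdef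
    obtain ⟨V, hV⟩ := hM.good M (hM.gen_normalizer_ne_top hD₀q hne) gen_gen
    have hAM : A ≤ M := le_gen hA hAN
    have hNV : N ≤ normalizer (V : Set G) :=
      (Subgroup.le_normalizer.trans (normalizer_le_gen hM.toPre)).trans (hM.core_norm hV hA hAM)
    have hVN : V ≤ N := hV.le.trans gen_le
    -- splitting along `V` and `C(A)`
    have key : ∀ Q, MaxInv q A Q →
        IsPGroup q ↥(Q ⊓ N ⊔ V) ∧ Q ⊓ N ≤ V ⊔ (Q ⊓ N ⊔ V) ⊓ centralizer (A : Set G) := by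
      intro Q hQ
      have hpg : IsPGroup q ↥(Q ⊓ N ⊔ V) :=
        (hQ.1.1.to_le inf_le_left).to_sup_of_normal_right' hV.pg (inf_le_right.trans hNV)
      refine ⟨hpg, fun r hr => ?_⟩
      have hAr : conjS r A ≤ M := le_gen (hM.inv A hA r) (conjS_le_of_mem hr.2 hAN)
      obtain ⟨u, hu, hur⟩ := hM.core_orbit hV hA hAM (hM.inv A hA r) hAr
      have hw : u⁻¹ * r ∈ Q ⊓ N ⊔ V :=
        mul_mem (mem_sup_right (inv_mem hu)) (mem_sup_left hr)
      have hAT : A ≤ normalizer ((Q ⊓ N ⊔ V : Subgroup G) : Set G) :=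
        le_normalizer_sup' (fun a ha => mem_normalizer_inf (hQ.1.2 ha)
          (Subgroup.le_normalizer (hAN ha))) (hAN.trans hNV)
      have hwc := hM.norm_centralizes hM.hq hM.hpq hpg hA hAT hw (by
        rw [conjS_mul, ← hur, conjS_inv_conjS])
      have : r = u * (u⁻¹ * r) := by group
      rw [this]
      exact mul_mem (mem_sup_left hu) (mem_sup_right ⟨hw, hwc⟩)
    obtain ⟨hp₁, hk₁⟩ := key Q₁ h₁
    obtain ⟨hp₂, hk₂⟩ := key Q₂ h₂
    obtain ⟨c, hc, S, hSq, hSH, hS₁, hS₂⟩ := exists_conj_le (q := q)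
      (H := N ⊓ centralizer (A : Set G))
      (S₁ := (Q₁ ⊓ N ⊔ V) ⊓ centralizer (A : Set G))
      (S₂ := (Q₂ ⊓ N ⊔ V) ⊓ centralizer (A : Set G))
      (inf_le_inf_right _ (sup_le inf_le_right hVN))
      (inf_le_inf_right _ (sup_le inf_le_right hVN))
      (hp₁.to_le inf_le_left) (hp₂.to_le inf_le_left)
    have hSN : S ≤ normalizer (V : Set G) := (hSH.trans inf_le_left).trans hNV
    have hR₃ : IsPGroup q ↥(S ⊔ V) := hSq.to_sup_of_normal_right' hV.pg hSN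
    obtain ⟨Q₃, h₃, hle₃⟩ := MaxInv.exists_le (A := A) hR₃ (le_normalizer_sup'
      ((le_centralizer_iff.1 (hSH.trans inf_le_right)).trans (centralizer_le_normalizer _))
      (hAN.trans hNV))
    have hQ₂₃ : Q₂ ⊓ N ≤ Q₃ := hk₂.trans ((sup_le le_sup_right (hS₂.trans le_sup_left)).trans hle₃)
    have hQ₁₃ : conjS c (Q₁ ⊓ N) ≤ Q₃ := by
      refine ((conjS_mono c hk₁).trans ?_).trans hle₃
      rw [conjS_sup, conjS_eq_of_le_normalizer hNV hc.1]
      exact sup_le le_sup_right (hS₁.trans le_sup_left)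
    have hlt₂₃ : D₀ < Q₂ ⊓ Q₃ :=
      (inf_normalizer_ne h₂.1.1 hlt₂).trans_le (le_inf inf_le_left hQ₂₃)
    have hlt₁₃ : D₀ < conjS c Q₁ ⊓ Q₃ := by
      refine lt_of_lt_of_le ?_ (le_inf (conjS_mono c (inf_le_left : Q₁ ⊓ N ≤ Q₁)) hQ₁₃)
      have h := inf_normalizer_ne h₁.1.1 hlt₁
      refine lt_of_le_of_ne ?_ fun h' => h.ne ?_
      · calc D₀ = conjS c D₀ := (conjS_eq_self_iff.2 hc.1).symm
          _ ≤ conjS c (Q₁ ⊓ N) := conjS_mono c h.le
      · exact (conjS_inj c).1 ((conjS_eq_self_iff.2 hc.1).trans h')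
    obtain ⟨c₂, hc₂, e₂⟩ := ih _ hlt₂₃ Q₂ Q₃ h₂ h₃ rfl (ne_bot_of_gt hlt₂₃)
    obtain ⟨c₁, hc₁, e₁⟩ := ih _ hlt₁₃ _ Q₃ (h₁.conj hc.2) h₃ rfl (ne_bot_of_gt hlt₁₃)
    refine ⟨c₂⁻¹ * c₁ * c, mul_mem (mul_mem (inv_mem hc₂) hc₁) hc.2, ?_⟩
    rw [conjS_mul, conjS_mul, e₁, ← e₂, conjS_inv_conjS]

/-- Invariant maximal `q`-subgroups meeting `C(A)` are conjugate under `C(A)`. -/
theorem conj_of_meet (hM : Min p q D) (hA : A ∈ D) {Q Q' : Subgroup G} (hQ : MaxInv q A Q)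
    (hQ' : MaxInv q A Q') (h : Q ⊓ centralizer (A : Set G) ≠ ⊥)
    (h' : Q' ⊓ centralizer (A : Set G) ≠ ⊥) :
    ∃ c ∈ centralizer (A : Set G), conjS c Q = Q' := by
  haveI := Fact.mk hM.hq
  obtain ⟨c, hc, S, hSq, hSH, hS₁, hS₂⟩ := exists_conj_le (q := q)
    (H := centralizer (A : Set G)) (inf_le_right : Q ⊓ centralizer (A : Set G) ≤ _)
    (inf_le_right : Q' ⊓ centralizer (A : Set G) ≤ _)
    (hQ.1.1.to_le inf_le_left) (hQ'.1.1.to_le inf_le_left)
  obtain ⟨Q₃, h₃, hle₃⟩ := MaxInv.exists_le (A := A) hSq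
    ((le_centralizer_iff.1 hSH).trans (centralizer_le_normalizer _))
  have hm₁ : conjS c Q ⊓ Q₃ ≠ ⊥ := fun h0 => h ((conjS_inj c).1 (by
    rw [conjS_bot, eq_bot_iff, ← h0]
    exact le_inf (conjS_mono c inf_le_left) (hS₁.trans hle₃)))
  have hm₂ : Q' ⊓ Q₃ ≠ ⊥ := fun h0 => h' (by
    rw [eq_bot_iff, ← h0]
    exact le_inf inf_le_left (hS₂.trans hle₃))
  obtain ⟨c₁, hc₁, e₁⟩ := hM.conj_of_inf hA _ _ _ (hQ.conj hc) h₃ rfl hm₁
  obtain ⟨c₂, hc₂, e₂⟩ := hM.conj_of_inf hA _ _ _ hQ' h₃ rfl hm₂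
  refine ⟨c₂⁻¹ * c₁ * c, mul_mem (mul_mem (inv_mem hc₂) hc₁) hc, ?_⟩
  rw [conjS_mul, conjS_mul, e₁, ← e₂, conjS_inv_conjS]

/-- If some maximal subgroup through `A` has a central part, so has the one of each invariant
maximal `q`-subgroup meeting `C(A)`. -/
theorem zmax_of_meet (hM : Min p q D) (hW : ZMax q D W U) (hA : A ∈ D) (hAW : A ≤ W)
    (hQ : MaxInv q A Q) (hQc : Q ⊓ centralizer (A : Set G) ≠ ⊥) :
    ∃ U', ZMax q D (gen D (normalizer (Q : Set G))) U' := by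
  obtain ⟨Q₀, hQ₀, hle⟩ := MaxInv.exists_le (A := A) hW.core.pg (hW.core.norm_mem hAW)
  have hc₀ : Q₀ ⊓ centralizer (A : Set G) ≠ ⊥ := fun h => hW.zne (by
    rw [eq_bot_iff, ← h]
    exact inf_le_inf hle (centralizer_le hAW))
  have hne : Q₀ ≠ ⊥ := fun h => hc₀ (by rw [h, bot_inf_eq])
  have hWle : W ≤ gen D (normalizer (Q₀ : Set G)) := by
    refine hW.max.1.2.trans (sSup_le fun C hC => ?_)
    obtain ⟨u, hu, rfl⟩ := hM.core_orbit hW.core hA hAW hC.1 hC.2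
    exact le_gen (hM.inv A hA u)
      (conjS_le_of_mem (Subgroup.le_normalizer (hle hu)) hQ₀.1.2)
  have heq := eq_gen hW.max hWle (hM.gen_normalizer_ne_top hQ₀.1.1 hne)
  obtain ⟨c, -, hc⟩ := hM.conj_of_meet hA hQ₀ hQ hc₀ hQc
  refine ⟨conjS c U, ?_⟩
  rw [← hc, ← conjS_normalizer, ← hM.conjS_gen, ← heq]
  exact hM.zmax_conj hW c

/-- In `W₁`, a member outside `W₂` normalising the linking `q`-subgroup. -/
theorem exists_step (hM : Min p q D) (h₁ : ZMax q D W₁ U₁) (h₂ : ZMax q D W₂ U₂) (hne : W₁ ≠ W₂)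
    (hA : A ∈ D) (hA₁ : A ≤ W₁) (hA₂ : A ≤ W₂) {T Y₁ Y₂ : Subgroup G}
    (hT : IsCore q D (gen D (W₁ ⊓ W₂)) T) (hTab : T ≤ centralizer (T : Set G))
    (hY₁ : Y₁ = U₁ ⊓ centralizer (W₁ : Set G) ⊓ normalizer (W₂ : Set G))
    (hY₂ : Y₂ = U₂ ⊓ centralizer (W₂ : Set G) ⊓ normalizer (W₁ : Set G)) (hY₂ne : Y₂ ≠ ⊥) :
    ∃ C ∈ D, C ≤ W₁ ∧ ¬ C ≤ W₂ ∧ C ≤ normalizer ((T ⊔ Y₁ ⊔ Y₂ : Subgroup G) : Set G) := by
  haveI := Fact.mk hM.hq
  set M := gen D (W₁ ⊓ W₂) with hMdef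
  have hAM : A ≤ M := le_gen hA (le_inf hA₁ hA₂)
  have hMW₁ : M ≤ W₁ := gen_le.trans inf_le_left
  have hMW₂ : M ≤ W₂ := gen_le.trans inf_le_right
  have hTU₁ : T ≤ U₁ := hM.core_le hT h₁.core hA hA₁ hMW₁
  set Z₁ := U₁ ⊓ centralizer (W₁ : Set G) with hZ₁
  set X := T ⊔ Z₁ with hX
  have hW₁c : ∀ x ∈ Z₁, ∀ w ∈ W₁, Commute w x := fun x hx w hw => mem_centralizer_iff.1 hx.2 w hw
  have hW₂c : ∀ y ∈ Y₂, ∀ w ∈ W₂, Commute w y := fun y hy w hw =>
    mem_centralizer_iff.1 (hY₂ ▸ hy : y ∈ U₂ ⊓ centralizer (W₂ : Set G) ⊓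
      normalizer (W₁ : Set G)).1.2 w hw
  have hXU : X ≤ U₁ := sup_le hTU₁ inf_le_left
  have hder : ⁅U₁, U₁⁆ ≤ X := (hM.derived_le_zc h₁.core hA hA₁).trans le_sup_right
  have hXlt : X < U₁ := lt_of_le_of_ne hXU fun he => hne (eq_of_le_maxGood h₁.max h₂.max (by
    refine h₁.max.1.2.trans (sSup_le fun C hC => ?_)
    obtain ⟨u, hu, rfl⟩ := hM.core_orbit h₁.core hA hA₁ hC.1 hC.2
    rw [← he] at hu
    have hXM : X ≤ normalizer (M : Set G) := sup_le (hT.le.trans Subgroup.le_normalizer)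
      (inf_le_right.trans ((centralizer_le hMW₁).trans (centralizer_le_normalizer _)))
    exact ((conjS_mono u hAM).trans_eq (conjS_eq_of_le_normalizer hXM hu)).trans hMW₂))
  have hZT : Z₁ ≤ normalizer (T : Set G) :=
    (inf_le_right.trans (centralizer_le (hT.le.trans hMW₁))).trans (centralizer_le_normalizer _)
  have hAX : A ≤ normalizer (X : Set G) :=
    le_normalizer_sup' (hT.norm_mem hAM) fun a ha => mem_normalizer_inf
      (h₁.core.norm_mem hA₁ ha) (mem_normalizer_centralizer (Subgroup.le_normalizer (hA₁ ha)))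
  have hUX : U₁ ≤ normalizer (X : Set G) := le_normalizer_iff_commutator_le_right.2
    ((commutator_mono le_rfl hXU).trans hder)
  have hY₂N : Y₂ ≤ normalizer (U₁ : Set G) := by
    rw [hY₂]; exact inf_le_right.trans (hM.core_norm h₁.core hA hA₁)
  have hY₂X : Y₂ ≤ normalizer (X : Set G) := by
    refine le_normalizer_sup' (fun y hy => ?_) fun y hy => ?_
    · exact centralizer_le_normalizer _
        (centralizer_le (hT.le.trans hMW₂) ((hY₂ ▸ hy : y ∈ U₂ ⊓ _ ⊓ _).1.2))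
    · exact mem_normalizer_inf (hY₂N hy)
        (mem_normalizer_centralizer ((hY₂ ▸ hy : y ∈ U₂ ⊓ _ ⊓ _).2))
  have hY₂q : IsPGroup q Y₂ := h₂.core.pg.to_le (hY₂ ▸ inf_le_left.trans inf_le_left)
  have hP₁ : IsPGroup q ↥(Y₂ ⊔ U₁) := hY₂q.to_sup_of_normal_right' h₁.core.pg hY₂N
  obtain ⟨n, hn, hnX, hnfix⟩ := exists_fixed_coset hP₁ le_sup_right hXlt (sup_le hY₂X hUX)
    (sup_le hY₂N Subgroup.le_normalizer)
  obtain ⟨a, haA, -, ha⟩ := exists_generator hM.hp (hM.card A hA)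
  set v := ⁅a, n⁆ with hv
  have haN : a ∈ normalizer (U₁ : Set G) := h₁.core.norm_mem hA₁ haA
  have hvU : v ∈ U₁ := mul_mem ((mem_normalizer_iff.1 haN n).1 hn) (inv_mem hn)
  have hvX : v ∉ X := fun h => hnX (derived_inv (h₁.core.norm_mem hA₁)
    (hM.core_full h₁.core hA hA₁) ha hder (hAX haA) hn h)
  -- the action of `Y₂` on `v`
  have hvy : ∀ y ∈ Y₂, ∃ α ∈ T, ∃ β ∈ T, y * v * y⁻¹ = α * v * β := by
    intro y hy
    obtain ⟨τ, hτ, x, hx, hτx⟩ := exists_mul_of_mem_sup hZT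
      (hnfix y (mem_sup_left hy))
    refine ⟨a * τ * a⁻¹, (mem_normalizer_iff.1 (hT.norm_mem hAM haA) τ).1 hτ, τ⁻¹, inv_mem hτ, ?_⟩
    have hyn : y * n * y⁻¹ = τ * x * n := by
      rw [hτx, commutatorElement_def]; group
    have hya : y * a * y⁻¹ = a := by
      rw [← (hW₂c y hy a (hA₂ haA)).eq, mul_inv_cancel_right]
    have hxn : x * n = n * x := (hW₁c x hx n (h₁.core.le hn)).eq.symm
    have hxa : x * (a⁻¹ * n⁻¹ * x⁻¹) = a⁻¹ * n⁻¹ :=  by
      have hc := hW₁c x hx _ (mul_mem (inv_mem (hA₁ haA)) (inv_mem (h₁.core.le hn)))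
      rw [← mul_assoc, ← hc.eq, mul_inv_cancel_right]
    calc y * v * y⁻¹ = ⁅y * a * y⁻¹, y * n * y⁻¹⁆ := by
          rw [hv]; simp only [commutatorElement_def]; group
      _ = ⁅a, τ * (x * n)⁆ := by rw [hya, hyn, mul_assoc]
      _ = ⁅a, τ * (n * x)⁆ := by rw [hxn]
      _ = a * τ * n * (x * (a⁻¹ * x⁻¹)) * n⁻¹ * τ⁻¹ := by
          rw [commutatorElement_def]; group
      _ = a * τ * n * a⁻¹ * n⁻¹ * τ⁻¹ := by
          rw [show x * (a⁻¹ * x⁻¹) = a⁻¹ by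
            rw [← mul_assoc, ← (hW₁c x hx _ (inv_mem (hA₁ haA))).eq, mul_inv_cancel_right]]
      _ = a * τ * a⁻¹ * v * τ⁻¹ := by rw [hv, commutatorElement_def]; group
  have hvσ : ∀ σ ∈ T, ⁅σ, v⁆ ∈ Y₁ := by
    intro σ hσ
    have hcZ : ⁅σ, v⁆ ∈ Z₁ :=
      hM.derived_le_zc h₁.core hA hA₁ (commutator_mem_commutator (hTU₁ hσ) hvU)
    rw [hY₁]
    refine ⟨hcZ, ?_⟩
    obtain ⟨y, hy, hy1⟩ := (Subgroup.nontrivial_iff_exists_ne_one _).1
      ((Subgroup.nontrivial_iff_ne_bot _).2 hY₂ne)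
    refine hM.centralizer_le_normalizer' h₂.max
      (hY₂ ▸ hy : y ∈ U₂ ⊓ centralizer (W₂ : Set G) ⊓ normalizer (W₁ : Set G)).1.2 hy1
      (mem_centralizer_singleton_iff.2 ?_)
    obtain ⟨α, hα, β, hβ, he⟩ := hvy y hy
    have hyσ : y * σ * y⁻¹ = σ := by
      rw [← (hW₂c y hy σ (hMW₂ (hT.le hσ))).eq, mul_inv_cancel_right]
    have hσT : ∀ τ ∈ T, σ * τ = τ * σ := fun τ hτ => mem_centralizer_iff.1 (hTab hτ) σ hσ
    have hcα : α * ⁅σ, v⁆ = ⁅σ, v⁆ * α := (hW₁c _ hcZ α (hMW₁ (hT.le hα))).eq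
    have h : y * ⁅σ, v⁆ * y⁻¹ = ⁅σ, v⁆ := by
      calc y * ⁅σ, v⁆ * y⁻¹ = ⁅y * σ * y⁻¹, y * v * y⁻¹⁆ := by
            simp only [commutatorElement_def]; group
        _ = σ * α * v * (β * σ⁻¹ * β⁻¹) * v⁻¹ * α⁻¹ := by
            rw [hyσ, he, commutatorElement_def]; group
        _ = (α * σ) * v * σ⁻¹ * v⁻¹ * α⁻¹ := by
            rw [hσT α hα, show β * σ⁻¹ * β⁻¹ = σ⁻¹ by
              rw [← (Commute.inv_left (hσT β hβ)).eq, mul_inv_cancel_right]]
        _ = α * ⁅σ, v⁆ * α⁻¹ := by rw [commutatorElement_def]; group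
        _ = ⁅σ, v⁆ := by rw [hcα, mul_inv_cancel_right]
    exact (mul_inv_eq_iff_eq_mul.1 h).symm
  have hvT : ∀ σ ∈ T, v * σ * v⁻¹ ∈ T ⊔ Y₁ := by
    intro σ hσ
    have : v * σ * v⁻¹ = ⁅σ, v⁆⁻¹ * σ := by simp only [commutatorElement_def]; group
    rw [this]
    exact mul_mem (mem_sup_right (inv_mem (hvσ σ hσ))) (mem_sup_left hσ)
  have hvP : v ∈ normalizer ((T ⊔ Y₁ ⊔ Y₂ : Subgroup G) : Set G) := by
    refine conjS_eq_self_iff.1 (eq_of_le_of_card ?_ (card_conjS _ _))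
    rw [conjS_sup, conjS_sup]
    refine sup_le (sup_le ?_ ?_) ?_ <;> intro z hz <;> rw [mem_conjS] at hz
    · have := hvT _ hz
      exact mem_sup_left (by simpa [mul_assoc] using this)
    · refine mem_sup_left (mem_sup_right ?_)
      have hc := (hW₁c _ (hY₁ ▸ hz : _ ∈ Z₁ ⊓ normalizer (W₂ : Set G)).1 v (h₁.core.le hvU)).eq
      have : z = v⁻¹ * z * v := by
        have := congrArg (fun w => w * v⁻¹) hc
        simpa [mul_assoc] using this
      rw [this]; exact hz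
    · obtain ⟨α, hα, β, hβ, he⟩ := hvy _ hz
      have hb : v * β⁻¹ * v⁻¹ ∈ T ⊔ Y₁ := hvT _ (inv_mem hβ)
      have : z = v * β⁻¹ * v⁻¹ * α⁻¹ * (v⁻¹ * z * v) := by
        generalize hy : v⁻¹ * z * v = y at he ⊢
        have hz' : z = v * y * v⁻¹ := by rw [← hy]; group
        calc z = v * (y * v⁻¹ * y⁻¹) * y := by rw [hz']; group
          _ = v * (y * v * y⁻¹)⁻¹ * y := by group
          _ = v * (α * v * β)⁻¹ * y := by rw [he]
          _ = _ := by group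
      rw [this]
      exact mul_mem (mul_mem (mem_sup_left hb) (mem_sup_left (mem_sup_left (inv_mem hα))))
        (mem_sup_right hz)
  have hAP : A ≤ normalizer ((T ⊔ Y₁ ⊔ Y₂ : Subgroup G) : Set G) := by
    refine le_normalizer_sup' (le_normalizer_sup' (hT.norm_mem hAM) ?_) ?_
    · refine (le_centralizer_iff.1 ?_).trans (centralizer_le_normalizer _)
      rw [hY₁]
      exact inf_le_left.trans (inf_le_right.trans (centralizer_le hA₁))
    · refine (le_centralizer_iff.1 ?_).trans (centralizer_le_normalizer _)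
      rw [hY₂]
      exact inf_le_left.trans (inf_le_right.trans (centralizer_le hA₂))
  refine ⟨conjS v A, hM.inv A hA v, conjS_le_of_mem (h₁.core.le hvU) hA₁, fun h => hvX ?_,
    conjS_le_of_mem hvP hAP⟩
  have hCM : conjS v A ≤ M :=
    le_gen (hM.inv A hA v) (le_inf (conjS_le_of_mem (h₁.core.le hvU) hA₁) h)
  obtain ⟨σ, hσ, he⟩ := hM.core_orbit hT hA hAM (hM.inv A hA v) hCM
  have := hM.zc_of_fix h₁.core hA hA₁ (mul_mem (inv_mem (hTU₁ hσ)) hvU)
    (by rw [conjS_mul, ← he, conjS_inv_conjS])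
  have h' : v = σ * (σ⁻¹ * v) := by group
  rw [h']
  exact mul_mem (mem_sup_left hσ) (mem_sup_right this)

/-- Two maximal subgroups sharing two members and linked by their central parts are equal. -/
theorem eq_of_share (hM : Min p q D) (J : Subgroup G) :
    ∀ W₁ U₁ W₂ U₂ : Subgroup G, gen D (W₁ ⊓ W₂) = J → ZMax q D W₁ U₁ → ZMax q D W₂ U₂ →
      ∀ A ∈ D, ∀ B ∈ D, A ≠ B → A ≤ W₁ → B ≤ W₁ → A ≤ W₂ → B ≤ W₂ →
      ∀ y ∈ U₂ ⊓ centralizer (W₂ : Set G), y ≠ 1 → y ∈ normalizer (W₁ : Set G) → W₁ = W₂ := by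
  haveI := Fact.mk hM.hq
  induction J using WellFoundedGT.induction with
  | ind J ih =>
    intro W₁ U₁ W₂ U₂ hJ h₁ h₂ A hA B hB hAB hA₁ hB₁ hA₂ hB₂ y hy hy1 hyN
    by_contra hne
    set M := gen D (W₁ ⊓ W₂) with hMdef
    have hMW₁ : M ≤ W₁ := gen_le.trans inf_le_left
    have hMW₂ : M ≤ W₂ := gen_le.trans inf_le_right
    have hAM : A ≤ M := le_gen hA (le_inf hA₁ hA₂)
    have hBM : B ≤ M := le_gen hB (le_inf hB₁ hB₂)
    obtain ⟨T, hT⟩ := hM.good M (fun h => h₁.max.1.1 (top_le_iff.1 (h ▸ hMW₁))) gen_gen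
    have hTab : T ≤ centralizer (T : Set G) := by
      rw [← commutator_eq_bot_iff_le_centralizer]
      by_contra h
      obtain ⟨x, hx, hx1⟩ := (Subgroup.nontrivial_iff_exists_ne_one _).1
        ((Subgroup.nontrivial_iff_ne_bot _).2 h)
      refine hne ?_
      rw [hM.eq_gen_centralizer h₁.max (hM.derived_le_centralizer h₁.core hA hA₁
          (commutator_mono (hM.core_le hT h₁.core hA hA₁ hMW₁)
            (hM.core_le hT h₁.core hA hA₁ hMW₁) hx)) hx1,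
        hM.eq_gen_centralizer h₂.max (hM.derived_le_centralizer h₂.core hA hA₂
          (commutator_mono (hM.core_le hT h₂.core hA hA₂ hMW₂)
            (hM.core_le hT h₂.core hA hA₂ hMW₂) hx)) hx1]
    set Y₁ := U₁ ⊓ centralizer (W₁ : Set G) ⊓ normalizer (W₂ : Set G) with hY₁
    set Y₂ := U₂ ⊓ centralizer (W₂ : Set G) ⊓ normalizer (W₁ : Set G) with hY₂
    have hY₂ne : Y₂ ≠ ⊥ := fun h => hy1 (by
      have : y ∈ Y₂ := ⟨hy, hyN⟩
      rwa [h, mem_bot] at this)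
    have hY₁ne : Y₁ ≠ ⊥ := by
      set Z₁ := U₁ ⊓ centralizer (W₁ : Set G) with hZ₁
      have hzN : zpowers y ≤ normalizer (Z₁ : Set G) := zpowers_le.2
        (mem_normalizer_inf (hM.core_norm h₁.core hA hA₁ hyN) (mem_normalizer_centralizer hyN))
      have hP : IsPGroup q ↥(zpowers y ⊔ Z₁) :=
        (h₂.core.pg.to_le (zpowers_le.2 hy.1)).to_sup_of_normal_right'
          (h₁.core.pg.to_le inf_le_left) hzN
      obtain ⟨x, hx, hx1, hxy⟩ := exists_fixed_coset hP le_sup_right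
        (bot_lt_iff_ne_bot.2 h₁.zne) (le_normalizer_of_normal)
        (sup_le hzN Subgroup.le_normalizer)
      have hc := hxy y (mem_sup_left (mem_zpowers y))
      rw [mem_bot, commutatorElement_eq_one_iff_mul_comm] at hc
      intro h
      have hxY : x ∈ Y₁ := ⟨hx, hM.centralizer_le_normalizer' h₂.max hy.2 hy1
        (mem_centralizer_singleton_iff.2 hc.symm)⟩
      rw [h] at hxY
      exact hx1 hxY
    obtain ⟨C, hC, hC₁, hC₂, hCN⟩ :=
      hM.exists_step h₁ h₂ hne hA hA₁ hA₂ hT hTab hY₁ hY₂ hY₂ne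
    obtain ⟨C', hC', hC'₂, hC'₁, hC'N⟩ := hM.exists_step h₂ h₁ (Ne.symm hne) hA hA₂ hA₁
      (inf_comm W₁ W₂ ▸ hT) hTab hY₂ hY₁ hY₁ne
    rw [sup_right_comm] at hC'N
    set P₀ := T ⊔ Y₁ ⊔ Y₂ with hP₀
    have hTW₁ : T ≤ W₁ := hT.le.trans hMW₁
    have hTW₂ : T ≤ W₂ := hT.le.trans hMW₂
    have hY₁T : Y₁ ≤ normalizer (T : Set G) :=
      ((inf_le_left.trans inf_le_right).trans (centralizer_le hTW₁)).trans
        (centralizer_le_normalizer _)
    have hY₂T : Y₂ ≤ normalizer (T : Set G) :=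
      ((inf_le_left.trans inf_le_right).trans (centralizer_le hTW₂)).trans
        (centralizer_le_normalizer _)
    have hY₂Y₁ : Y₂ ≤ normalizer (Y₁ : Set G) := fun z hz => by
      refine mem_normalizer_inf (mem_normalizer_inf (hM.core_norm h₁.core hA hA₁ hz.2)
        (mem_normalizer_centralizer hz.2)) ?_
      rw [← conjS_eq_self_iff, conjS_normalizer, conjS_eq_self_iff.2]
      exact centralizer_le_normalizer _ hz.1.2
    have hP₀q : IsPGroup q P₀ :=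
      (hT.pg.to_sup_of_normal_left' (h₁.core.pg.to_le (inf_le_left.trans inf_le_left))
        hY₁T).to_sup_of_normal_left' (h₂.core.pg.to_le (inf_le_left.trans inf_le_left))
        (le_normalizer_sup' hY₂T hY₂Y₁)
    have hP₀ne : P₀ ≠ ⊥ := fun h => hY₂ne (le_bot_iff.1 (h ▸ le_sup_right))
    have hAP : A ≤ normalizer (P₀ : Set G) := by
      refine le_normalizer_sup' (le_normalizer_sup' (hT.norm_mem hAM) ?_) ?_
      · exact (le_centralizer_iff.1 (inf_le_left.trans (inf_le_right.trans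
          (centralizer_le hA₁)) : Y₁ ≤ centralizer (A : Set G))).trans (centralizer_le_normalizer _)
      · exact (le_centralizer_iff.1 (inf_le_left.trans (inf_le_right.trans
          (centralizer_le hA₂)) : Y₂ ≤ centralizer (A : Set G))).trans (centralizer_le_normalizer _)
    set M' := gen D (normalizer (P₀ : Set G)) with hM'
    obtain ⟨U', hU'⟩ := hM.good M' (hM.gen_normalizer_ne_top hP₀q hP₀ne) gen_gen
    have hAM' : A ≤ M' := le_gen hA hAP
    have hP₀U' : P₀ ≤ normalizer (U' : Set G) :=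
      ((Subgroup.le_normalizer.trans Subgroup.le_normalizer).trans
        (normalizer_le_gen hM.toPre)).trans (hM.core_norm hU' hA hAM')
    obtain ⟨Q, hQ, hQle⟩ := MaxInv.exists_le (A := A)
      (hP₀q.to_sup_of_normal_right' hU'.pg hP₀U')
      (le_normalizer_sup' hAP (hU'.norm_mem hAM'))
    have hyP : y ∈ P₀ := mem_sup_right ⟨hy, hyN⟩
    obtain ⟨U₃, h₃⟩ := hM.zmax_of_meet h₁ hA hA₁ hQ (fun h => hy1 (by
      have : y ∈ Q ⊓ centralizer (A : Set G) :=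
        ⟨hQle (mem_sup_left hyP), centralizer_le hA₂ hy.2⟩
      rwa [h, mem_bot] at this))
    set W₃ := gen D (normalizer (Q : Set G)) with hW₃
    have hQW₃ : Q ≤ normalizer (W₃ : Set G) :=
      (Subgroup.le_normalizer.trans Subgroup.le_normalizer).trans (normalizer_le_gen hM.toPre)
    have hM'₃ : M' ≤ W₃ := by
      refine hU'.gens.trans (sSup_le fun E hE => ?_)
      obtain ⟨u, hu, rfl⟩ := hM.core_orbit hU' hA hAM' hE.1 hE.2
      exact le_gen (hM.inv A hA u)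
        (conjS_le_of_mem (Subgroup.le_normalizer (hQle (mem_sup_right hu))) hQ.1.2)
    have hMM' : M ≤ M' := by
      refine le_gen_of_le gen_gen ((hT.spl A hA hAM).trans (sup_le ?_ hAP))
      exact (le_sup_left.trans le_sup_left : T ≤ P₀).trans Subgroup.le_normalizer
    have hlt₁ : J < gen D (W₁ ⊓ W₃) := by
      rw [← hJ]
      refine lt_of_le_of_ne (le_gen_of_le gen_gen (le_inf hMW₁ (hMM'.trans hM'₃))) fun h => ?_
      exact hC₂ ((le_gen hC (le_inf hC₁ ((le_gen hC hCN).trans hM'₃))).trans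
        (h.symm.le.trans hMW₂))
    have hlt₂ : J < gen D (W₂ ⊓ W₃) := by
      rw [← hJ]
      refine lt_of_le_of_ne (le_gen_of_le gen_gen (le_inf hMW₂ (hMM'.trans hM'₃))) fun h => ?_
      exact hC'₁ ((le_gen hC' (le_inf hC'₂ ((le_gen hC' hC'N).trans hM'₃))).trans
        (h.symm.le.trans hMW₁))
    obtain ⟨y₁, hy₁, hy₁1⟩ := (Subgroup.nontrivial_iff_exists_ne_one _).1
      ((Subgroup.nontrivial_iff_ne_bot _).2 hY₁ne)
    have hA₃ : A ≤ W₃ := hAM'.trans hM'₃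
    have hB₃ : B ≤ W₃ := (hBM.trans hMM').trans hM'₃
    refine hne ((ih _ hlt₁ W₃ U₃ W₁ U₁ (by rw [inf_comm]) h₃ h₁ A hA B hB hAB hA₃ hB₃ hA₁ hB₁
      y₁ hy₁.1 hy₁1 (hQW₃ (hQle (mem_sup_left (mem_sup_left (mem_sup_right hy₁)))))).symm.trans
      (ih _ hlt₂ W₃ U₃ W₂ U₂ (by rw [inf_comm]) h₃ h₂ A hA B hB hAB hA₃ hB₃ hA₂ hB₂
        y hy hy1 (hQW₃ (hQle (mem_sup_left hyP)))))

end Min

end Cfsg.Agent.DistribPairs
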