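import Cfsg.Agent.Lib.DistribPairs.Goods

/-!
# Involutions acting on the members

An involution fixes a member; it either centralises all the members it fixes or inverts all.
-/

set_option autoImplicit false
set_option linter.unusedSectionVars false
set_option linter.style.haveILetI false

namespace Cfsg.Agent.DistribPairs

open Subgroup
open scoped commutatorElement

universe u

variable {G : Type u} [Group G] {D : Set (Subgroup G)} {p q : ℕ}

theorem conjS_invol {t : G} (ht : t * t = 1) (A : Subgroup G) : conjS t (conjS t A) = A := by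
  rw [← conjS_mul, ht, conjS_one]

theorem inv_eq_self {t : G} (ht : t * t = 1) : t⁻¹ = t := inv_eq_of_mul_eq_one_right ht

theorem conjS_pair {t : G} (ht : t * t = 1) (B : Subgroup G) :
    conjS t (B ⊔ conjS t B) = B ⊔ conjS t B := by
  rw [conjS_sup, conjS_invol ht, sup_comm]

theorem mem_centralizer_singleton_of_fix {t : G} {C : Subgroup G} (hC : C ≤ centralizer ({t} : Set G)) :
    conjS t C = C := by
  refine conjS_eq_self_iff.2 (centralizer_le_normalizer _ (mem_centralizer_iff.2 fun c hc => ?_))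
  exact mem_centralizer_singleton_iff.1 (hC hc)

variable [Finite G] {A B C C' L Q W U : Subgroup G} {t : G}

namespace Sys

/-- An involution permuting an odd number of subgroups fixes an odd number of them. -/
theorem odd_fixed (ht : t * t = 1) (O : Set (Subgroup G)) (hO : ∀ X ∈ O, conjS t X ∈ O)
    (hodd : Odd O.ncard) : Odd {X ∈ O | conjS t X = X}.ncard := by
  have h2 : IsPGroup 2 (zpowers t) := by
    rintro ⟨x, i, rfl⟩
    refine ⟨1, Subtype.ext ?_⟩
    show (t ^ i) ^ 2 ^ 1 = 1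
    rw [pow_one, pow_two, ← (Commute.refl t).mul_zpow, ht, one_zpow]
  have hset : {X ∈ O | ∀ g ∈ zpowers t, conjS g X = X} = {X ∈ O | conjS t X = X} := by
    ext X
    exact and_congr_right fun _ => ⟨fun h => h t (mem_zpowers t), fun h g hg =>
      conjS_eq_of_le_normalizer (zpowers_le.2 (conjS_eq_self_iff.1 h)) hg⟩
  have hmem : ∀ g ∈ zpowers t, ∀ X ∈ O, conjS g X ∈ O := by
    rintro g ⟨i, rfl⟩ X hX
    rcases Int.even_or_odd' i with ⟨j, rfl | rfl⟩
    · show conjS (t ^ (2 * j)) X ∈ O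
      rw [zpow_mul, zpow_two, ht, one_zpow, conjS_one]
      exact hX
    · show conjS (t ^ (2 * j + 1)) X ∈ O
      rw [zpow_add_one, zpow_mul, zpow_two, ht, one_zpow, one_mul]
      exact hO X hX
  haveI := Fact.mk Nat.prime_two
  have h := count_mod h2 O hmem
  rw [hset] at h
  rw [Nat.odd_iff] at hodd ⊢
  rw [← hodd]
  exact h.symm

theorem exists_fixed (ht : t * t = 1) (O : Set (Subgroup G)) (hO : ∀ X ∈ O, conjS t X ∈ O)
    (hodd : Odd O.ncard) : ∃ X ∈ O, conjS t X = X := by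
  obtain ⟨X, hX⟩ := Set.nonempty_of_ncard_ne_zero (odd_fixed ht O hO hodd).pos.ne'
  exact ⟨X, hX.1, hX.2⟩

theorem cent_or_inv (hS : Sys p q D) (ht : t * t = 1) (hC : C ∈ D) (hfix : conjS t C = C) :
    C ≤ centralizer ({t} : Set G) ∨ ∀ c ∈ C, t * c * t⁻¹ = c⁻¹ := by
  refine or_iff_not_imp_right.2 fun h => ?_
  push Not at h
  obtain ⟨c, hc, hne⟩ := h
  have htc : t * c * t⁻¹ ∈ C := hfix.le (conj_mem_conjS t hc)
  set d := c * (t * c * t⁻¹) with hd
  have hdC : d ∈ C := mul_mem hc htc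
  have hd1 : d ≠ 1 := fun h => hne (eq_inv_of_mul_eq_one_right h)
  rw [← zpowers_eq_of_card_prime hS.hp (hS.card C hC) hdC hd1, zpowers_le,
    mem_centralizer_singleton_iff]
  haveI : IsCyclic C := by
    haveI := Fact.mk hS.hp
    exact isCyclic_of_prime_card (hS.card C hC)
  have hcomm : c * (t * c * t⁻¹) = t * c * t⁻¹ * c :=
    congrArg Subtype.val ((IsCyclic.isMulCommutative (α := C)).is_comm.comm
      (⟨c, hc⟩ : C) ⟨_, htc⟩)
  have hti := inv_eq_self ht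
  calc d * t = t * c * t⁻¹ * c * t := by rw [hd, hcomm]
    _ = t * (c * (t * c * t⁻¹)) := by rw [hti]; simp [mul_assoc]
    _ = t * d := by rw [hd]

/-- An involution centralising one fixed member centralises all fixed members. -/
theorem consistent (hS : Sys p q D) (ht : t * t = 1) (hC : C ∈ D) (hC' : C' ∈ D)
    (hc : C ≤ centralizer ({t} : Set G)) (hfix' : conjS t C' = C') :
    C' ≤ centralizer ({t} : Set G) := by
  by_cases he : C = C'
  · exact he ▸ hc
  refine (hS.cent_or_inv ht hC' hfix').resolve_right fun hinv => ?_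
  obtain ⟨Q, hQ⟩ := hS.exists_line_core hC hC' he
  have htL : t ∈ normalizer ((C ⊔ C' : Subgroup G) : Set G) := conjS_eq_self_iff.1 (by
    rw [conjS_sup, mem_centralizer_singleton_of_fix hc, hfix'])
  have htQ := hS.core_norm hQ hC le_sup_left htL
  refine hS.ne_bot hC' (le_bot_iff.1 fun c' hc' => ?_)
  obtain ⟨w, hw, c₀, hc₀, rfl⟩ := exists_mul_of_mem_sup (hQ.norm_mem le_sup_left)
    (hQ.spl C hC le_sup_left (le_sup_right (a := C) hc'))
  have htc₀ : t * c₀ * t⁻¹ = c₀ := by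
    rw [← mem_centralizer_singleton_iff.1 (hc hc₀), mul_inv_cancel_right]
  have hαw : t * w * t⁻¹ ∈ Q := (mem_normalizer_iff.1 htQ w).1 hw
  have hβw : c₀⁻¹ * w⁻¹ * c₀ ∈ Q := by
    simpa using (mem_normalizer_iff.1 (hQ.norm_mem le_sup_left (inv_mem hc₀)) w⁻¹).1 (inv_mem hw)
  have h1 : t * w * t⁻¹ * c₀ = c₀⁻¹ * w⁻¹ := by
    rw [← mul_inv_rev, ← hinv _ hc']
    conv_lhs => rw [← htc₀]
    group
  have h2 : c₀ * c₀ ∈ Q := by
    have : c₀ * c₀ = (t * w * t⁻¹)⁻¹ * (c₀⁻¹ * w⁻¹ * c₀) := by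
      rw [← h1]; group
    rw [this]
    exact mul_mem (inv_mem hαw) hβw
  have hc₀1 : c₀ = 1 := by
    have h3 : c₀ * c₀ ∈ C ⊓ Q := ⟨mul_mem hc₀ hc₀, h2⟩
    rw [hS.inf_pgroup hS.hq hS.hpq hC hQ.pg, mem_bot] at h3
    haveI := Fact.mk hS.hp
    by_contra hne
    have hd : orderOf c₀ ∣ 2 := orderOf_dvd_of_pow_eq_one (by rw [pow_two, h3])
    rw [orderOf_eq_prime (hS.exp hC hc₀) hne, Nat.prime_dvd_prime_iff_eq hS.hp Nat.prime_two] at hd
    exact hS.hp2 hd
  have h4 : w * c₀ ∈ C' ⊓ Q := ⟨hc', by rw [hc₀1, mul_one]; exact hw⟩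
  rwa [hS.inf_pgroup hS.hq hS.hpq hC' hQ.pg] at h4

/-- The line through a moved member and its image holds a fixed one. -/
theorem exists_fixed_on_line (hS : Sys p q D) (ht : t * t = 1) (hB : B ∈ D)
    (hmove : conjS t B ≠ B) : ∃ C ∈ D, C ≤ B ⊔ conjS t B ∧ conjS t C = C := by
  obtain ⟨Q, hQ⟩ := hS.exists_line_core hB (hS.inv B hB t) (Ne.symm hmove)
  obtain ⟨C, ⟨hC, hCL⟩, hfix⟩ := exists_fixed ht (mem' D (B ⊔ conjS t B))
    (fun X hX => conjS_mem' hS.toPre (conjS_eq_self_iff.1 (conjS_pair ht B)) hX)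
    (hS.odd_members hQ hB le_sup_left)
  exact ⟨C, hC, hCL, hfix⟩

/-- An involution whose centralised members lie in `W` normalises it. -/
theorem insight (hS : Sys p q D) (ht : t * t = 1) (hW : W ≤ gen D W) (hC : C ∈ D)
    (hc : C ≤ centralizer ({t} : Set G))
    (hE : ∀ X ∈ D, X ≤ centralizer ({t} : Set G) → X ≤ W) : t ∈ normalizer (W : Set G) := by
  refine conjS_eq_self_iff.1 (eq_of_le_of_card ?_ (card_conjS t W))
  refine (conjS_mono t hW).trans ?_
  rw [conjS, map_le_iff_le_comap]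
  refine sSup_le fun B hB => map_le_iff_le_comap.1 ?_
  show conjS t B ≤ W
  by_cases hfix : conjS t B = B
  · rw [hfix]; exact hB.2
  obtain ⟨C', hC', hC'L, hfix'⟩ := hS.exists_fixed_on_line ht hB.1 hfix
  have hC'W : C' ≤ W := hE C' hC' (hS.consistent ht hC hC' hc hfix')
  have hne : B ≠ C' := fun h => hfix (by rw [h, hfix'])
  have := hS.closed B hB.1 _ (hS.inv B hB.1 t) (Ne.symm hfix) B hB.1 C' hC' hne le_sup_left hC'L
  exact le_sup_right.trans (this.symm.le.trans (sup_le hB.2 hC'W))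

/-- An involution fixing a single member of a line inverts its core modulo the centre. -/
theorem inverts_mod (hS : Sys p q D) (ht : t * t = 1) (hL : IsCore q D L Q)
    (htL : conjS t L = L) (hC : C ∈ D) (hCL : C ≤ L) (hfix : conjS t C = C)
    (huniq : ∀ X ∈ D, X ≤ L → conjS t X = X → X = C) {w : G} (hw : w ∈ Q) :
    w * (t * w * t⁻¹) ∈ Q ⊓ centralizer (L : Set G) := by
  have htQ := hS.core_norm hL hC hCL (conjS_eq_self_iff.1 htL)
  have hα : ∀ x ∈ Q, t * x * t⁻¹ ∈ Q := fun x hx => (mem_normalizer_iff.1 htQ x).1 hx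
  have key : ∀ x ∈ Q, x⁻¹ * (t * x * t⁻¹) ∈ Q ⊓ centralizer (L : Set G) →
      x ∈ Q ⊓ centralizer (L : Set G) := by
    intro x hx hz
    refine hS.zc_of_fix hL hC hCL hx (huniq _ (hS.inv C hC x) (conjS_le_of_mem (hL.le hx) hCL) ?_)
    have hzC : conjS (x⁻¹ * (t * x * t⁻¹)) C = C :=
      conjS_eq_self_iff.2 (centralizer_le_normalizer _ (centralizer_le hCL hz.2))
    calc conjS t (conjS x C) = conjS (t * x * t⁻¹) (conjS t C) := by
          rw [← conjS_mul, ← conjS_mul]; group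
      _ = conjS x (conjS (x⁻¹ * (t * x * t⁻¹)) C) := by
          rw [hfix, ← conjS_mul]; group
      _ = conjS x C := by rw [hzC]
  refine key _ (mul_mem hw (hα w hw)) (hS.derived_le_zc hL hC hCL ?_)
  have e : (w * (t * w * t⁻¹))⁻¹ * (t * (w * (t * w * t⁻¹)) * t⁻¹) =
      ⁅(t * w * t⁻¹)⁻¹, w⁻¹⁆ := by
    have hti := inv_eq_self ht
    have htt : t * (t * w * t⁻¹) * t⁻¹ = w := by
      rw [← mul_assoc, ← mul_assoc, ht, one_mul, mul_assoc, ← mul_inv_rev, ht, inv_one, mul_one]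
    rw [show t * (w * (t * w * t⁻¹)) * t⁻¹ = (t * w * t⁻¹) * (t * (t * w * t⁻¹) * t⁻¹) by group,
      htt, commutatorElement_def]
    group
  rw [e]
  exact commutator_mem_commutator (inv_mem (hα w hw)) (inv_mem hw)

/-- It centralises the centre of the core. -/
theorem fixes_zc (hS : Sys p q D) (ht : t * t = 1) (hL : IsCore q D L Q)
    (htL : conjS t L = L) (hC : C ∈ D) (hCL : C ≤ L) (hfix : conjS t C = C)
    (huniq : ∀ X ∈ D, X ≤ L → conjS t X = X → X = C) {z : G}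
    (hz : z ∈ Q ⊓ centralizer (L : Set G)) : z ∈ centralizer ({t} : Set G) := by
  have hzd : z ∈ ⁅Q, Q⁆ :=
    hS.fixed_le_derived hL hC hCL ⟨hz.1, centralizer_le hCL hz.2⟩
  suffices h : ⁅Q, Q⁆ ≤ centralizer ({t} : Set G) from h hzd
  rw [commutator_le]
  intro x hx y hy
  rw [mem_centralizer_singleton_iff]
  obtain hzx := hS.inverts_mod ht hL htL hC hCL hfix huniq hx
  obtain hzy := hS.inverts_mod ht hL htL hC hCL hfix huniq hy
  have hcZ : ⁅x, y⁆ ∈ Q ⊓ centralizer (L : Set G) :=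
    hS.derived_le_zc hL hC hCL (commutator_mem_commutator hx hy)
  have hcen : ∀ z ∈ Q ⊓ centralizer (L : Set G), ∀ g ∈ Q, Commute g z := fun z hz g hg =>
    mem_centralizer_iff.1 hz.2 g (hL.le hg)
  have ex : t * x * t⁻¹ = x⁻¹ * (x * (t * x * t⁻¹)) := by group
  have ey : t * y * t⁻¹ = y⁻¹ * (y * (t * y * t⁻¹)) := by group
  have h1 : ⁅t * x * t⁻¹, t * y * t⁻¹⁆ = ⁅x⁻¹, y⁻¹⁆ := by
    rw [ex, ey]
    generalize x * (t * x * t⁻¹) = z₁ at hzx ⊢
    generalize y * (t * y * t⁻¹) = z₂ at hzy ⊢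
    have hz₁ := hcen z₁ hzx
    have hz₂ := hcen z₂ hzy
    rw [commutatorElement_def, commutatorElement_def, mul_inv_rev, mul_inv_rev, inv_inv, inv_inv]
    calc x⁻¹ * z₁ * (y⁻¹ * z₂) * (z₁⁻¹ * x) * (z₂⁻¹ * y)
        = x⁻¹ * z₁ * y⁻¹ * (z₂ * z₁⁻¹) * x * z₂⁻¹ * y := by group
      _ = x⁻¹ * z₁ * y⁻¹ * (z₁⁻¹ * z₂) * x * z₂⁻¹ * y := by
          rw [((hz₁ z₂ hzy.1).inv_right).eq]
      _ = x⁻¹ * (z₁ * y⁻¹) * z₁⁻¹ * (z₂ * x) * z₂⁻¹ * y := by group
      _ = x⁻¹ * (y⁻¹ * z₁) * z₁⁻¹ * (x * z₂) * z₂⁻¹ * y := by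
          rw [(hz₁ y⁻¹ (inv_mem hy)).eq, (hz₂ x hx).eq]
      _ = x⁻¹ * y⁻¹ * x * y := by group
  have h2 : ⁅x⁻¹, y⁻¹⁆ = ⁅x, y⁆ := by
    have hc := (hcen _ hcZ (y * x) (mul_mem hy hx)).eq
    calc ⁅x⁻¹, y⁻¹⁆ = (y * x)⁻¹ * (⁅x, y⁆ * (y * x)) := by
          simp only [commutatorElement_def]; group
      _ = (y * x)⁻¹ * ((y * x) * ⁅x, y⁆) := by rw [← hc]
      _ = ⁅x, y⁆ := by group
  have h3 : t * ⁅x, y⁆ * t⁻¹ = ⁅x, y⁆ := by
    calc t * ⁅x, y⁆ * t⁻¹ = ⁅t * x * t⁻¹, t * y * t⁻¹⁆ := by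
          simp only [commutatorElement_def]; group
      _ = ⁅x, y⁆ := h1.trans h2
  exact (mul_inv_eq_iff_eq_mul.1 h3).symm

end Sys

end Cfsg.Agent.DistribPairs
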