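import Cfsg.Agent.Lib.DistribPairs.Strong
import Cfsg.Agent.Lib.Characters.Burnside
import Cfsg.Agent.Lib.Counting.SylowCount

/-!
# Lines with abelian derived subgroup

The set of products of two elements of members is a subgroup, so every element has order `p` or a
power of `q` and the centralizer of a member is the member.
-/

set_option autoImplicit false
set_option linter.unusedSectionVars false
set_option linter.style.haveILetI false

namespace Cfsg.Agent.DistribPairs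

open Subgroup
open scoped commutatorElement

variable {G : Type*} [Group G] [Finite G] {D : Set (Subgroup G)} {p q : ℕ} {A B : Subgroup G}

/-- Elements of members. -/
def points (D : Set (Subgroup G)) : Set G := {x | ∃ C ∈ D, x ∈ C}

/-- All lines are `q`-by-`p` with abelian derived subgroup. -/
structure AbSys (p q : ℕ) (D : Set (Subgroup G)) : Prop extends Strong p D where
  hq : q.Prime
  hqp : p ≠ q
  core : ∀ C ∈ D, ∀ E ∈ D, C ≠ E → IsPGroup q ↥⁅C ⊔ E, C ⊔ E⁆ ∧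
    C ⊔ E ≤ ⁅C ⊔ E, C ⊔ E⁆ ⊔ C
  ab : ∀ C ∈ D, ∀ E ∈ D, C ≠ E → CommAb (C ⊔ E)
  top : sSup D = ⊤

namespace AbSys

theorem inf_cent (hS : AbSys p q D) (hA : A ∈ D) (hB : B ∈ D) (hne : A ≠ B) :
    ⁅A ⊔ B, A ⊔ B⁆ ⊓ centralizer (A : Set G) = ⊥ := by
  set K := ⁅A ⊔ B, A ⊔ B⁆
  obtain ⟨hKq, hsup⟩ := hS.core A hA B hB hne
  have hN : A ≤ normalizer (K : Set G) := le_sup_left.trans (normalizer_commutator_ge_left _ _)
  have hfull : K ≤ ⁅A, K⁆ := by
    refine le_commutator_of_gen hN (hS.inf_pgroup hS.hq hS.hqp hA hKq) ?_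
    refine (le_normalizer_iff_commutator_le_right.1 Subgroup.le_normalizer).trans (sup_le ?_ ?_)
    · exact le_sSup ⟨1, one_mem K, conjS_one A⟩
    · obtain ⟨h, hh, hAh⟩ := hS.orbit (H := A ⊔ B) hA le_sup_left hB le_sup_right
      obtain ⟨k, hk, a, ha, rfl⟩ := exists_mul_of_mem_sup hN (hsup hh)
      exact le_sSup ⟨k, hk, by rw [← hAh, conjS_mul, conjS_self ha]⟩
  obtain ⟨a, -, -, ha⟩ := exists_generator hS.hp (hS.card A hA)
  exact le_bot_iff.1 ((inf_centralizer_le_derived hN hfull ha).trans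
    (commAb_iff.1 (hS.ab A hA B hB hne)).le)

/-- An element of a line outside its derived subgroup lies in a member. -/
theorem mem_points_of_notMem (hS : AbSys p q D) (hA : A ∈ D) (hB : B ∈ D) (hne : A ≠ B) {x : G}
    (hx : x ∈ A ⊔ B) (hxK : x ∉ ⁅A ⊔ B, A ⊔ B⁆) : x ∈ points D := by
  set K := ⁅A ⊔ B, A ⊔ B⁆
  have hN : A ≤ normalizer (K : Set G) := le_sup_left.trans (normalizer_commutator_ge_left _ _)
  obtain ⟨k, hk, a, ha, rfl⟩ := exists_mul_of_mem_sup hN ((hS.core A hA B hB hne).2 hx)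
  have ha1 : a ≠ 1 := by
    rintro rfl
    exact hxK (by simpa using hk)
  let φ : K → K := fun y => ⟨(y : G) * a * (y : G)⁻¹ * a⁻¹, by
    rw [show (y : G) * a * (y : G)⁻¹ * a⁻¹ = (y : G) * (a * (y : G)⁻¹ * a⁻¹) by group]
    exact mul_mem y.2 ((mem_normalizer_iff.1 (hN ha) _).1 (inv_mem y.2))⟩
  have hinj : Function.Injective φ := by
    intro y z h
    have h' : (y : G) * a * (y : G)⁻¹ * a⁻¹ = (z : G) * a * (z : G)⁻¹ * a⁻¹ :=
      congrArg Subtype.val h
    have hw : ((z⁻¹ * y : K) : G) ∈ K ⊓ centralizer (A : Set G) := by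
      refine ⟨(z⁻¹ * y).2, ?_⟩
      show _ ∈ centralizer (A : Set G)
      rw [← zpowers_eq_of_card_prime hS.hp (hS.card A hA) ha ha1, mem_centralizer_iff]
      rintro _ ⟨i, rfl⟩
      refine (Commute.zpow_left ?_ i).eq
      have h'' : (y : G) * a * (y : G)⁻¹ = (z : G) * a * (z : G)⁻¹ := mul_right_cancel h'
      show a * ((z⁻¹ * y : K) : G) = ((z⁻¹ * y : K) : G) * a
      rw [Subgroup.coe_mul, Subgroup.coe_inv]
      calc a * ((z : G)⁻¹ * y) = (z : G)⁻¹ * ((z : G) * a * (z : G)⁻¹) * y := by group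
        _ = (z : G)⁻¹ * ((y : G) * a * (y : G)⁻¹) * y := by rw [h'']
        _ = (z : G)⁻¹ * y * a := by group
    rw [hS.inf_cent hA hB hne, mem_bot, OneMemClass.coe_eq_one, inv_mul_eq_one] at hw
    exact hw.symm
  obtain ⟨y, hy⟩ := Finite.injective_iff_surjective.1 hinj ⟨k, hk⟩
  have hy' : (y : G) * a * (y : G)⁻¹ * a⁻¹ = k := congrArg Subtype.val hy
  refine ⟨conjS (y : G) A, hS.inv A hA y, ?_⟩
  rw [← hy', inv_mul_cancel_right]
  exact conj_mem_conjS _ ha

theorem one_mem_points (hA : A ∈ D) : (1 : G) ∈ points D := ⟨A, hA, one_mem A⟩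

/-- Products of three points are products of two. -/
theorem triple (hS : AbSys p q D) {a b c : G} (ha : a ∈ points D) (hb : b ∈ points D)
    (hc : c ∈ points D) : ∃ e ∈ points D, ∃ f ∈ points D, e * f = a * b * c := by
  obtain ⟨A, hA, haA⟩ := ha
  obtain ⟨B, hB, hbB⟩ := hb
  obtain ⟨C, hC, hcC⟩ := hc
  by_cases hAB : A = B
  · subst hAB
    exact ⟨a * b, ⟨A, hA, mul_mem haA hbB⟩, c, ⟨C, hC, hcC⟩, rfl⟩
  by_cases hBC : B = C
  · subst hBC
    exact ⟨a, ⟨A, hA, haA⟩, b * c, ⟨B, hB, mul_mem hbB hcC⟩, (mul_assoc a b c).symm⟩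
  by_cases hab : a * b ∈ ⁅A ⊔ B, A ⊔ B⁆
  swap
  · exact ⟨a * b, hS.mem_points_of_notMem hA hB hAB
      (mul_mem (mem_sup_left haA) (mem_sup_right hbB)) hab, c, ⟨C, hC, hcC⟩, rfl⟩
  obtain ⟨b₀, hb₀, hb1, -⟩ := exists_generator hS.hp (hS.card B hB)
  have hBK : ∀ {E : Subgroup G}, E ∈ D → B ≠ E → ∀ w ∈ B, w ∈ ⁅B ⊔ E, B ⊔ E⁆ → w = 1 := by
    intro E hE hBE w hw hwK
    exact mem_bot.1 ((hS.inf_pgroup hS.hq hS.hqp hB (hS.core B hB E hE hBE).1) ▸
      (⟨hw, hwK⟩ : w ∈ B ⊓ _))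
  obtain ⟨w, hw, hw1, hwc⟩ : ∃ w ∈ B, w ≠ 1 ∧ w * c ∉ ⁅B ⊔ C, B ⊔ C⁆ := by
    by_cases h : b₀ * c ∈ ⁅B ⊔ C, B ⊔ C⁆
    · refine ⟨b₀ * b₀, mul_mem hb₀ hb₀, fun h2 => hb1 ?_, fun h' => hb1 (hBK hC hBC b₀ hb₀ ?_)⟩
      · have hd : orderOf b₀ ∣ 2 := orderOf_dvd_of_pow_eq_one (by rw [pow_two, h2])
        haveI := Fact.mk hS.hp
        rw [← orderOf_eq_one_iff]
        refine ((Nat.dvd_prime Nat.prime_two).1 hd).resolve_right fun he => hS.hp2 ?_
        rw [← he, orderOf_eq_prime (hS.exp hB hb₀) hb1]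
      · have := mul_mem h' (inv_mem h)
        simpa [mul_assoc] using this
    · exact ⟨b₀, hb₀, hb1, h⟩
  have hne : a * b * w⁻¹ ∉ ⁅A ⊔ B, A ⊔ B⁆ := fun h => by
    have h2 : w⁻¹ ∈ ⁅A ⊔ B, A ⊔ B⁆ := by
      have := mul_mem (inv_mem hab) h
      rwa [← mul_assoc, inv_mul_cancel, one_mul] at this
    rw [sup_comm A B] at h2
    exact hw1 (inv_eq_one.1 (hBK hA (Ne.symm hAB) _ (inv_mem hw) h2))
  refine ⟨a * b * w⁻¹, hS.mem_points_of_notMem hA hB hAB (mul_mem (mul_mem (mem_sup_left haA)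
    (mem_sup_right hbB)) (mem_sup_right (inv_mem hw))) hne, w * c, hS.mem_points_of_notMem hB hC
    hBC (mul_mem (mem_sup_left hw) (mem_sup_right hcC)) hwc, by group⟩

theorem eq_mul_points (hS : AbSys p q D) (hA : A ∈ D) (x : G) :
    ∃ e ∈ points D, ∃ f ∈ points D, e * f = x := by
  let H : Subgroup G :=
    { carrier := {x | ∃ e ∈ points D, ∃ f ∈ points D, e * f = x}
      one_mem' := ⟨1, one_mem_points hA, 1, one_mem_points hA, one_mul 1⟩
      mul_mem' := by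
        rintro _ _ ⟨a, ha, b, hb, rfl⟩ ⟨c, hc, d, hd, rfl⟩
        obtain ⟨e, he, f, hf, hef⟩ := hS.triple ha hb hc
        obtain ⟨e', he', f', hf', hef'⟩ := hS.triple he hf hd
        exact ⟨e', he', f', hf', by rw [hef', hef, mul_assoc]⟩
      inv_mem' := by
        rintro _ ⟨a, ⟨C, hC, haC⟩, b, ⟨E, hE, hbE⟩, rfl⟩
        exact ⟨b⁻¹, ⟨E, hE, inv_mem hbE⟩, a⁻¹, ⟨C, hC, inv_mem haC⟩, (mul_inv_rev a b).symm⟩ }
  have h : (⊤ : Subgroup G) ≤ H := hS.top ▸ sSup_le fun C hC y hy =>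
    ⟨y, ⟨C, hC, hy⟩, 1, one_mem_points hA, mul_one y⟩
  exact h (mem_top x)

theorem elem_cases (hS : AbSys p q D) (hA : A ∈ D) (x : G) :
    x ∈ points D ∨ ∃ k : ℕ, x ^ q ^ k = 1 := by
  obtain ⟨e, ⟨C, hC, he⟩, f, ⟨E, hE, hf⟩, rfl⟩ := hS.eq_mul_points hA x
  by_cases hCE : C = E
  · exact Or.inl ⟨C, hC, mul_mem he (hCE ▸ hf)⟩
  by_cases hK : e * f ∈ ⁅C ⊔ E, C ⊔ E⁆
  · obtain ⟨k, hk⟩ := (hS.core C hC E hE hCE).1 ⟨_, hK⟩
    exact Or.inr ⟨k, by simpa using congrArg Subtype.val hk⟩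
  · exact Or.inl (hS.mem_points_of_notMem hC hE hCE
      (mul_mem (mem_sup_left he) (mem_sup_right hf)) hK)

theorem centralizer_le (hS : AbSys p q D) (hA : A ∈ D) : centralizer (A : Set G) ≤ A := by
  intro x hx
  obtain ⟨a, ha, ha1, hza⟩ := exists_generator hS.hp (hS.card A hA)
  have hc : Commute a x := mem_centralizer_iff.1 hx a ha
  rcases hS.elem_cases hA x with ⟨B, hB, hxB⟩ | ⟨j, hj⟩
  · by_cases hx1 : x = 1
    · exact hx1 ▸ one_mem A
    by_contra hxA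
    refine hS.nc A hA B hB (fun h => hxA (h ▸ hxB)) ?_
    rw [← zpowers_eq_of_card_prime hS.hp (hS.card B hB) hxB hx1]
    exact zpowers_le.2 hx
  rcases hS.elem_cases hA (a * x) with ⟨B, hB, hxB⟩ | ⟨k, hk⟩
  · have h1 := hS.exp hB hxB
    rw [hc.mul_pow, hS.exp hA ha, one_mul] at h1
    have := mem_of_pow_mem hS.hp hS.hq hS.hqp (U := (⊥ : Subgroup G)) hj (mem_bot.2 h1)
    exact (mem_bot.1 this) ▸ one_mem A
  · refine absurd ?_ ha1
    have h1 : (a * x) ^ q ^ (k + j) = 1 := by rw [pow_add, pow_mul, hk, one_pow]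
    have h2 : x ^ q ^ (k + j) = 1 := by rw [add_comm, pow_add, pow_mul, hj, one_pow]
    rw [hc.mul_pow, h2, mul_one] at h1
    exact mem_bot.1 (mem_of_pow_pow_mem hS.hp hS.hq hS.hqp (U := (⊥ : Subgroup G))
      (hS.exp hA ha) (k := k + j) (mem_bot.2 h1))

/-- The group is `q`-by-`p`, and the kernel is moved freely by the members. -/
theorem conclusion (hS : AbSys p q D) (hA : A ∈ D) :
    ∃ U : Subgroup G, U.Normal ∧ IsPGroup q U ∧ U ⊔ A = ⊤ ∧
      U ⊓ centralizer (A : Set G) = ⊥ := by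
  haveI := Fact.mk hS.hp
  haveI := Fact.mk hS.hq
  -- a Sylow subgroup is a member
  obtain ⟨S, hAS⟩ := (isPGroup_of_card_prime (hS.card A hA)).exists_le_sylow
  have hSA : (S : Subgroup G) = A := by
    obtain ⟨a, ha, ha1, -⟩ := exists_generator hS.hp (hS.card A hA)
    haveI : Nontrivial (S : Subgroup G) :=
      ⟨⟨⟨a, hAS ha⟩, 1, fun h => ha1 (congrArg Subtype.val h)⟩⟩
    haveI := S.2.center_nontrivial
    obtain ⟨z, hz1⟩ := exists_ne (1 : center (S : Subgroup G))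
    have hzA : ((z : (S : Subgroup G)) : G) ∈ A := hS.centralizer_le hA
      (mem_centralizer_iff.2 fun b hb =>
        congrArg Subtype.val (mem_center_iff.1 z.2 ⟨b, hAS hb⟩))
    have hz0 : ((z : (S : Subgroup G)) : G) ≠ 1 := fun h =>
      hz1 (Subtype.ext (Subtype.ext h))
    refine le_antisymm ((fun s hs => hS.centralizer_le hA ?_)) hAS
    rw [← zpowers_eq_of_card_prime hS.hp (hS.card A hA) hzA hz0, mem_centralizer_iff]
    rintro _ ⟨i, rfl⟩
    exact (Commute.zpow_left (congrArg Subtype.val (mem_center_iff.1 z.2 ⟨s, hs⟩)).symm i).eq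
  -- the order
  have hcard := (S : Subgroup G).card_mul_index
  have hndvd := S.not_dvd_index
  rw [hSA, hS.card A hA] at hcard
  rw [hSA] at hndvd
  have hprimes : ∀ {d : ℕ}, d.Prime → d ∣ A.index → d = q := by
    intro d hd hdA
    haveI := Fact.mk hd
    obtain ⟨x, hx⟩ := exists_prime_orderOf_dvd_card' d
      (show d ∣ Nat.card G from hcard ▸ dvd_mul_of_dvd_right hdA p)
    rcases hS.elem_cases hA x with ⟨B, hB, hxB⟩ | ⟨k, hk⟩
    · have := orderOf_dvd_of_pow_eq_one (hS.exp hB hxB)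
      rw [hx, Nat.prime_dvd_prime_iff_eq hd hS.hp] at this
      exact absurd (this ▸ hdA) hndvd
    · have := orderOf_dvd_of_pow_eq_one hk
      rw [hx] at this
      exact (Nat.prime_dvd_prime_iff_eq hd hS.hq).1 (hd.dvd_of_dvd_pow this)
  obtain ⟨n, hn⟩ : ∃ n, A.index = q ^ n :=
    ⟨_, Nat.eq_prime_pow_of_unique_prime_dvd A.index_ne_zero_of_finite hprimes⟩
  have hG : Nat.card G = p ^ 1 * q ^ n := by rw [pow_one, ← hn, hcard]
  have hsol : Group.IsSolvable G := Characters.burnside_pa_qb hS.hp hS.hq hG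
  -- the largest normal `q`-subgroup
  obtain ⟨V, -, ⟨hVn, hVq⟩, hVmax⟩ := Set.Finite.exists_le_maximal
    (Set.toFinite {N : Subgroup G | N.Normal ∧ IsPGroup q N}) (a := ⊥)
    ⟨inferInstance, IsPGroup.of_bot⟩
  haveI := hVn
  have hAV : A ⊓ V = ⊥ := hS.inf_pgroup hS.hq hS.hqp hA hVq
  set π := QuotientGroup.mk' V with hπ
  have hcardA : Nat.card (A.map π) = p := by
    have hd : Nat.card (A.map π) ∣ p := hS.card A hA ▸ A.card_map_dvd π
    refine ((Nat.dvd_prime hS.hp).1 hd).resolve_left fun h => hS.ne_bot hA ?_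
    rw [Subgroup.card_eq_one, Subgroup.map_eq_bot_iff, hπ, QuotientGroup.ker_mk'] at h
    rw [← hAV, inf_eq_left.2 h]
  haveI : Nontrivial (G ⧸ V) := by
    rw [← Finite.one_lt_card_iff_nontrivial]
    exact hS.hp.one_lt.trans_le (hcardA ▸ Subgroup.card_le_card_group _)
  have hsolQ : Group.IsSolvable (G ⧸ V) := inferInstance
  obtain ⟨r, X, hr, hXn, hX1, hXr⟩ := Counting.SylowCount.exists_normal_pGroup_of_isSolvable hsolQ
  haveI := Fact.mk hr
  haveI := hXn
  have hQdvd : Nat.card (G ⧸ V) ∣ p ^ 1 * q ^ n := hG ▸ V.card_quotient_dvd_card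
  have hrp : r = p := by
    obtain ⟨m, hm⟩ := hXr.exists_card_eq
    have hm0 : m ≠ 0 := fun h => hX1 (eq_bot_of_card_eq X (by rw [hm, h, pow_zero]))
    have hrd : r ∣ p ^ 1 * q ^ n :=
      ((hm ▸ dvd_pow_self r hm0 : r ∣ Nat.card X).trans X.card_subgroup_dvd_card).trans hQdvd
    rcases hr.dvd_mul.1 hrd with h | h
    · exact (Nat.prime_dvd_prime_iff_eq hr hS.hp).1 (hr.dvd_of_dvd_pow h)
    · exfalso
      have hrq : r = q := (Nat.prime_dvd_prime_iff_eq hr hS.hq).1 (hr.dvd_of_dvd_pow h)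
      subst hrq
      have hker : IsPGroup r π.ker := by rw [hπ, QuotientGroup.ker_mk']; exact hVq
      have h2 := hVmax ⟨Subgroup.Normal.comap hXn π, hXr.comap_of_ker_isPGroup π hker⟩
        (by intro v hv
            rw [mem_comap, hπ, QuotientGroup.mk'_apply, (QuotientGroup.eq_one_iff v).2 hv]
            exact one_mem X)
      refine hX1 ?_
      rw [← map_comap_eq_self_of_surjective (QuotientGroup.mk'_surjective V) X,
        Subgroup.map_eq_bot_iff, QuotientGroup.ker_mk']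
      exact h2
  subst hrp
  have hXA : X = A.map π := by
    have hp' : IsPGroup r ↥(A.map π ⊔ X) :=
      (isPGroup_of_card_prime hcardA).to_sup_of_normal_right hXr
    obtain ⟨m, hm⟩ := hp'.exists_card_eq
    have h1 : r ^ m ∣ r ^ 1 := by
      refine Nat.Coprime.dvd_of_dvd_mul_right
        (((Nat.coprime_primes hS.hp hS.hq).2 hS.hqp).pow m n) ?_
      exact hm ▸ (Subgroup.card_subgroup_dvd_card _).trans hQdvd
    have hsup : A.map π = A.map π ⊔ X := eq_of_le_of_card le_sup_left (by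
      refine le_antisymm (card_le_of_le le_sup_left) ?_
      rw [hm, hcardA]
      exact (Nat.le_of_dvd (pow_pos hS.hp.pos 1) h1).trans_eq (pow_one r))
    have hle : X ≤ A.map π := hsup ▸ le_sup_right
    refine eq_of_le_of_card hle (le_antisymm (card_le_of_le hle) ?_)
    obtain ⟨j, hj⟩ := hXr.exists_card_eq
    have hj0 : j ≠ 0 := fun h => hX1 (eq_bot_of_card_eq X (by rw [hj, h, pow_zero]))
    rw [hcardA, hj]
    exact Nat.le_self_pow hj0 r
  have htop : V ⊔ A = ⊤ := by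
    have he : V ⊔ A = (A.map π).comap π := by
      rw [comap_map_eq, hπ, QuotientGroup.ker_mk', sup_comm]
    haveI : (V ⊔ A).Normal := by
      rw [he, ← hXA]
      exact Subgroup.Normal.comap hXn π
    refine eq_top_iff.2 (hS.top.ge.trans (sSup_le fun B hB => ?_))
    obtain ⟨g, -, rfl⟩ := hS.orbit (H := ⊤) hA le_top hB le_top
    exact (conjS_mono g le_sup_right).trans_eq
      (conjS_eq_of_le_normalizer le_normalizer_of_normal (mem_top g))
  exact ⟨V, hVn, hVq, htop,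
    le_bot_iff.1 ((inf_le_inf_left V (hS.centralizer_le hA)).trans (inf_comm A V ▸ hAV.le))⟩

end AbSys

end Cfsg.Agent.DistribPairs
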