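import Cfsg.Agent.Lib.DistribPairs.Odd
import Cfsg.Agent.Lib.DistribPairs.SetArg

/-!
# Groups generated by subgroups of order `p` any two of which generate one group of odd order

Such a group has odd order modulo its centre and is there a Frobenius group.
-/

set_option autoImplicit false
set_option linter.unusedSectionVars false
set_option linter.style.haveILetI false

namespace Cfsg.Agent.DistribPairs

open Subgroup
open scoped commutatorElement

universe u

/-- A system generating the group is `q`-by-`p`. -/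
theorem concl_all (p q : ℕ) : ∀ n : ℕ, Ind.{u} p q n := by
  intro n
  induction n with
  | zero => exact fun H _ _ h => absurd h (Nat.not_lt_zero _)
  | succ n ih =>
    intro H _ _ hlt D hS htop
    rcases Nat.lt_succ_iff_lt_or_eq.1 hlt with h | h
    · exact ih H h D hS htop
    subst h
    by_contra hc
    obtain ⟨A, hA, B, hB, hne⟩ : ∃ A ∈ D, ∃ B ∈ D, A ≠ B := by
      by_contra hcon
      push Not at hcon
      exact hc (concl_of_subsingleton htop hcon)
    have hproper : ∀ A ∈ D, ∀ B ∈ D, A ⊔ B ≠ ⊤ := by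
      intro A hA B hB htopL
      by_cases hAB : A = B
      · subst hAB
        rw [sup_idem] at htopL
        exact hc (concl_of_subsingleton htop fun X hX Y hY =>
          (hS.eq_of_le hX hA (htopL ▸ le_top)).trans (hS.eq_of_le hY hA (htopL ▸ le_top)).symm)
      obtain ⟨Q, hQ⟩ := hS.exists_line_core hA hB hAB
      refine hc ⟨Q, ?_, hQ.pg, fun C hC => ?_⟩
      · rw [← normalizer_eq_top_iff, eq_top_iff, ← htopL]
        exact hQ.norm
      · rw [eq_top_iff, ← htopL]
        exact hQ.spl C hC (htopL ▸ le_top)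
    have hnoq : ∀ R : Subgroup H, R.Normal → IsPGroup q R → R = ⊥ := fun R hR hRq =>
      by_contra fun hR1 => hc (hS.concl_of_normal htop ih (hNn := hR) hR1 (Or.inl hRq))
    have hcen : center H = ⊥ :=
      by_contra fun h1 => hc (hS.concl_of_normal htop ih h1 (Or.inr le_rfl))
    have hM : Min p q D :=
      { toSys := hS, top := htop, good := hS.allGood ih, noq := hnoq
        cen := hcen, proper := hproper }
    exact hM.contradiction' hA hB hne

variable {G : Type u} [Group G] [Finite G] {p : ℕ} {D : Set (Subgroup G)}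

/-- The structure of the group. -/
theorem structure' (hS : Strong p D) (htop : sSup D = ⊤) {A B : Subgroup G} (hA : A ∈ D)
    (hB : B ∈ D) (hne : A ≠ B) :
    ∃ (q : ℕ) (U : Subgroup G), q.Prime ∧ q ≠ 2 ∧ p ≠ q ∧ U.Normal ∧ IsPGroup q U ∧ U ⊔ A = ⊤ ∧
      U ⊓ centralizer (A : Set G) ≤ center G := by
  obtain ⟨q, hq, hqp, hq2, hcore⟩ := hS.line_core hA hB hne
  by_cases hab : ∀ C ∈ D, ∀ E ∈ D, C ≠ E → CommAb (C ⊔ E)
  · have hA' : AbSys p q D :=
      { toStrong := hS, hq := hq, hqp := hqp.symm,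
        core := fun C hC E hE h => ⟨(hcore C hC E hE h).1, (hcore C hC E hE h).2.1⟩,
        ab := hab, top := htop }
    obtain ⟨U, hUn, hUq, hU, hinf⟩ := hA'.conclusion hA
    exact ⟨q, U, hq, hq2, hqp.symm, hUn, hUq, hU, hinf.le.trans bot_le⟩
  push Not at hab
  obtain ⟨C₀, hC₀, E₀, hE₀, hne₀, hnot⟩ := hab
  have hnab : ∀ C ∈ D, ∀ E ∈ D, C ≠ E → ¬ CommAb (C ⊔ E) := fun C hC E hE h hcomm =>
    hnot (hS.commAb_congr hC hE h hC₀ hE₀ hne₀ hcomm)
  have hsys : Sys p q D := hS.sys_of_nonab hq hqp hq2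
    (fun C hC E hE h => ⟨(hcore C hC E hE h).1, (hcore C hC E hE h).2.1⟩) hnab
  obtain ⟨U, hUn, hUq, hU⟩ := concl_all p q _ G (Nat.lt_succ_self _) D hsys htop
  have hgenA : (⊤ : Subgroup G) ≤ gen D ⊤ := htop.ge.trans (sSup_le fun C hC => le_gen hC le_top)
  have hcoreU : IsCore q D ⊤ U :=
    ⟨hUq, le_top, by rw [normalizer_eq_top], hgenA, fun C hC _ => (hU C hC).ge⟩
  refine ⟨q, U, hq, hq2, hqp.symm, hUn, hUq, hU A hA, ?_⟩
  intro x hx
  have := hsys.fixed_le_centralizer hcoreU hA le_top hx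
  exact mem_center_iff.2 fun g => mem_centralizer_iff.1 this.2 g (mem_top g)

/-- The central quotient is a Frobenius group of odd order. -/
theorem main (hnab : ¬ IsMulCommutative G) (hp : p.Prime) (hp2 : p ≠ 2)
    (hcard : ∀ A ∈ D, Nat.card A = p) (hinv : ∀ A ∈ D, ∀ g : G, conjS g A ∈ D)
    (htop : sSup D = ⊤) {F : Type*} [Group F] (hF : Odd (Nat.card F))
    (hpair : ∀ A ∈ D, ∀ B ∈ D, A ≠ B → Nonempty (↥(A ⊔ B) ≃* F)) :
    Odd (Nat.card (G ⧸ center G)) ∧
      ∃ H : Subgroup (G ⧸ center G), Cfsg.IsFrobeniusComplement H := by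
  haveI := Fact.mk hp
  have hcyc : ∀ A ∈ D, A ≤ centralizer (A : Set G) := fun A hA =>
    le_centralizer_of_le_normalizer hp (hcard A hA) (hcard A hA) Subgroup.le_normalizer
  have hnc : ∀ A ∈ D, ∀ B ∈ D, A ≠ B → ¬ B ≤ centralizer (A : Set G) := by
    intro A hA B hB hAB hle
    refine hnab ⟨⟨fun x y => ?_⟩⟩
    have hAA : ∀ a ∈ A ⊔ B, ∀ b ∈ A ⊔ B, a * b = b * a := by
      have h1 : A ⊔ B ≤ centralizer ((A ⊔ B : Subgroup G) : Set G) :=
        sup_le (le_centralizer_iff.1 (sup_le (hcyc A hA) hle))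
          (le_centralizer_iff.1 (sup_le (le_centralizer_iff.1 hle) (hcyc B hB)))
      exact fun a ha b hb => (mem_centralizer_iff.1 (h1 ha) b hb).symm
    have hall : ∀ C ∈ D, ∀ E ∈ D, C ≤ centralizer (E : Set G) := by
      intro C hC E hE
      by_cases hCE : C = E
      · exact hCE ▸ hcyc C hC
      obtain ⟨e⟩ := hpair A hA B hB hAB
      obtain ⟨e'⟩ := hpair C hC E hE hCE
      intro c hc
      rw [mem_centralizer_iff]
      intro x hx
      have h := hAA _ ((e'.trans e.symm) ⟨x, mem_sup_right hx⟩).2 _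
        ((e'.trans e.symm) ⟨c, mem_sup_left hc⟩).2
      rw [← Subgroup.coe_mul, ← Subgroup.coe_mul, Subtype.coe_inj, ← map_mul, ← map_mul] at h
      exact congrArg Subtype.val ((e'.trans e.symm).injective h)
    have h1 : (⊤ : Subgroup G) ≤ centralizer ((⊤ : Subgroup G) : Set G) := by
      rw [← htop]
      refine sSup_le fun C hC => le_centralizer_iff.1 (sSup_le fun E hE => ?_)
      exact hall E hE C hC
    exact (mem_centralizer_iff.1 (h1 (mem_top y)) x (mem_top x))
  have hS : Strong p D :=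
    { hp := hp, card := hcard, inv := hinv, nc := hnc, hp2 := hp2
      odd := fun A hA B hB h => by
        obtain ⟨e⟩ := hpair A hA B hB h
        rwa [Nat.card_congr e.toEquiv]
      iso := fun A hA B hB h C hC E hE h' => by
        obtain ⟨e⟩ := hpair A hA B hB h
        obtain ⟨e'⟩ := hpair C hC E hE h'
        exact ⟨e.trans e'.symm⟩ }
  obtain ⟨A, hA, B, hB, hne⟩ : ∃ A ∈ D, ∃ B ∈ D, A ≠ B := by
    by_contra hcon
    push Not at hcon
    refine hnab ⟨⟨fun x y => ?_⟩⟩
    have h1 : (⊤ : Subgroup G) ≤ centralizer ((⊤ : Subgroup G) : Set G) := by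
      rw [← htop]
      refine sSup_le fun C hC => le_centralizer_iff.1 (sSup_le fun E hE => ?_)
      rw [hcon E hE C hC]
      exact hcyc C hC
    exact (mem_centralizer_iff.1 (h1 (mem_top y)) x (mem_top x))
  obtain ⟨q, U, hq, hq2, hpq, hUn, hUq, htopU, hfix⟩ := structure' hS htop hA hB hne
  haveI := hUn
  haveI := Fact.mk hq
  set Z := center G with hZ
  set π := QuotientGroup.mk' Z with hπ
  have hπs : Function.Surjective π := QuotientGroup.mk'_surjective Z
  constructor
  · refine Odd.of_dvd_nat ?_ Z.card_quotient_dvd_card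
    rw [← Nat.not_even_iff_odd, even_iff_two_dvd]
    intro h
    haveI := Fact.mk Nat.prime_two
    obtain ⟨x, hx⟩ := exists_prime_orderOf_dvd_card' 2 h
    have hxU : x ∈ U := le_of_isPGroup_sup hp Nat.prime_two hp2 le_normalizer_of_normal
      (fun a ha => hS.exp hA ha) (IsPGroup.of_card (n := 1) (by rw [Nat.card_zpowers, hx, pow_one]))
      (htopU ▸ le_top) (mem_zpowers x)
    obtain ⟨k, hk⟩ := hUq ⟨x, hxU⟩
    have hd : orderOf x ∣ q ^ k :=
      orderOf_dvd_of_pow_eq_one (by simpa using congrArg Subtype.val hk)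
    rw [hx] at hd
    exact hq2 ((Nat.prime_dvd_prime_iff_eq Nat.prime_two hq).1
      (Nat.prime_two.dvd_of_dvd_pow hd)).symm
  have hAZ : ¬ A ≤ Z := fun h => hnc A hA B hB hne
    (le_centralizer_iff.1 (h.trans (center_le_centralizer _)))
  refine ⟨A.map π, ?_, ?_, ?_⟩
  · rw [Ne, Subgroup.map_eq_bot_iff, hπ, QuotientGroup.ker_mk']
    exact hAZ
  · intro h
    refine hnc A hA B hB hne ?_
    have h' : (⊤ : Subgroup G) = A ⊔ Z := by
      rw [← comap_top π, ← h, comap_map_eq, hπ, QuotientGroup.ker_mk']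
    refine (le_top : B ≤ ⊤).trans (h'.le.trans (sup_le (hcyc A hA) ?_))
    exact center_le_centralizer _
  · intro g hg
    by_contra hne'
    obtain ⟨y, hy, hy1⟩ := (Subgroup.nontrivial_iff_exists_ne_one _).1
      ((Subgroup.nontrivial_iff_ne_bot _).2 hne')
    obtain ⟨g, rfl⟩ := hπs g
    obtain ⟨a, ha, rfl⟩ := hy.1
    obtain ⟨_, ⟨a', ha', rfl⟩, he⟩ := hy.2
    refine hg ?_
    have hz : (g * a' * g⁻¹)⁻¹ * a ∈ Z := by
      rw [← QuotientGroup.eq_one_iff (N := Z)]
      show π ((g * a' * g⁻¹)⁻¹ * a) = 1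
      simp only [map_mul, map_inv]
      rw [← he]
      simp [MulAut.conj_apply, mul_assoc]
    have ha1 : a ≠ 1 := fun h => hy1 (by rw [h, map_one])
    have hle : A ≤ centralizer (conjS g A : Set G) := by
      rw [← zpowers_eq_of_card_prime hp (hcard A hA) ha ha1, zpowers_le,
        zpowers_eq_of_card_prime hp (hcard A hA) ha ha1]
      have : a = (g * a' * g⁻¹) * ((g * a' * g⁻¹)⁻¹ * a) := by group
      rw [this]
      exact mul_mem (hcyc _ (hinv A hA g) (conj_mem_conjS g ha'))
        (center_le_centralizer _ hz)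
    have hgA : conjS g A = A := by
      by_contra hgA
      exact hnc _ (hinv A hA g) A hA hgA hle
    obtain ⟨u, hu, b, hb, rfl⟩ := exists_mul_of_mem_sup (U := U) (A := A) le_normalizer_of_normal
      (htopU.ge (mem_top g))
    rw [conjS_mul, conjS_self hb] at hgA
    have hucen : u ∈ Z :=
      hfix ⟨hu, hS.norm_centralizes hq hpq hUq hA le_normalizer_of_normal hu hgA⟩
    rw [map_mul]
    refine mul_mem ?_ (mem_map_of_mem π hb)
    rw [hπ, QuotientGroup.mk'_apply, (QuotientGroup.eq_one_iff u).2 hucen]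
    exact one_mem _

end Cfsg.Agent.DistribPairs
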