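import Cfsg.Agent.Lib.DistribPairs.Brauer
import Cfsg.Agent.Lib.Counting.SylowCount
import Cfsg.Agent.S0205

/-!
# There is no minimal counterexample

An involution would be isolated, against the `Z*`-theorem, so the group has odd order and is
solvable.
-/

set_option autoImplicit false
set_option linter.unusedSectionVars false
set_option linter.style.haveILetI false

namespace Cfsg.Agent.DistribPairs

open Subgroup
open scoped commutatorElement

universe u

variable {G : Type u} [Group G] [Finite G] {D : Set (Subgroup G)} {p q : ℕ}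
  {A B C : Subgroup G} {t u : G}

theorem mul_self_of_orderOf (ht : orderOf t = 2) : t * t = 1 := by
  rw [← pow_two, ← ht, pow_orderOf_eq_one]

theorem centralizer_conj_le {g : G} (hC : C ≤ centralizer ({t} : Set G)) :
    conjS g C ≤ centralizer ({g * t * g⁻¹} : Set G) := by
  intro x hx
  have h := mem_centralizer_singleton_iff.1 (hC (mem_conjS.1 hx))
  rw [mem_centralizer_singleton_iff]
  have := congrArg (fun y => g * y * g⁻¹) h
  simpa [mul_assoc] using this

theorem conjS_fix_of_commute (hc : Commute t u) (h : conjS t C = C) :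
    conjS t (conjS u C) = conjS u C := by
  rw [← conjS_mul, hc.eq, conjS_mul, h]

namespace Min

theorem not_mem_oddCore (ht : orderOf t = 2) : t ∉ Cfsg.oddCore G := fun h => by
  have := InvChar.Core.odd_card_oddCore.of_dvd_nat
    (ht ▸ Subgroup.orderOf_dvd_natCard (Cfsg.oddCore G) h)
  exact Nat.not_even_iff_odd.2 this even_two

theorem eq_of_fix (hM : Min p q D) (ht : orderOf t = 2) (hC : C ∈ D)
    (hc : C ≤ centralizer ({t} : Set G)) (hB : B ∈ D) (hfix : conjS t B = B) : B = C :=
  hM.not_cent_two ht hB (hM.consistent (mul_self_of_orderOf ht) hC hB hc hfix) hC hc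

/-- An involution centralising a member is isolated. -/
theorem isolated_of_cent (hM : Min p q D) (ht : orderOf t = 2) (hC : C ∈ D)
    (hc : C ≤ centralizer ({t} : Set G)) : Cfsg.IsIsolatedInvolution t := by
  refine ⟨ht, fun g hg => ?_⟩
  set u := g * t * g⁻¹ with hu
  have hu2 : orderOf u = 2 := by rw [hu, Involutions.Basic.orderOf_conj, ht]
  have ht' := mul_self_of_orderOf ht
  have hu' := mul_self_of_orderOf hu2
  have hC' : conjS g C ≤ centralizer ({u} : Set G) := centralizer_conj_le hc
  have huC : conjS u C = C := hM.eq_of_fix ht hC hc (hM.inv C hC u)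
    (conjS_fix_of_commute hg (mem_centralizer_singleton_of_fix hc))
  have hcu : C ≤ centralizer ({u} : Set G) :=
    hM.consistent hu' (hM.inv C hC g) hC hC' huC
  have heq : ∀ B ∈ D, conjS u B = conjS t B := by
    intro B hB
    by_cases hfix : conjS t B = B
    · rw [hM.eq_of_fix ht hC hc hB hfix, huC, mem_centralizer_singleton_of_fix hc]
    have hufix : conjS u B ≠ B := fun h => hfix (by
      rw [hM.eq_of_fix hu2 hC hcu hB h, mem_centralizer_singleton_of_fix hc])
    have hBC : B ≠ C := fun h => hfix (by rw [h, mem_centralizer_singleton_of_fix hc])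
    have key : ∀ s : G, orderOf s = 2 → C ≤ centralizer ({s} : Set G) → conjS s B ≠ B →
        B ⊔ C = B ⊔ conjS s B := by
      intro s hs hcs hmove
      obtain ⟨C₁, hC₁, hC₁L, hfix₁⟩ := hM.exists_fixed_on_line (mul_self_of_orderOf hs) hB hmove
      have := hM.eq_of_fix hs hC hcs hC₁ hfix₁
      subst this
      exact hM.closed B hB _ (hM.inv B hB s) (Ne.symm hmove) B hB C₁ hC₁ hBC le_sup_left hC₁L
    obtain ⟨Q, hQ⟩ := hM.exists_line_core hB hC hBC
    obtain ⟨w, hw, rfl⟩ := hM.core_orbit hQ hC le_sup_right hB le_sup_left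
    have key2 : ∀ s : G, orderOf s = 2 → C ≤ centralizer ({s} : Set G) →
        conjS s (conjS w C) ≠ conjS w C → conjS s (conjS w C) = conjS w⁻¹ C := by
      intro s hs hcs hmove
      have hs' := mul_self_of_orderOf hs
      have hsC : conjS s C = C := mem_centralizer_singleton_of_fix hcs
      have hsL : conjS s (conjS w C ⊔ C) = conjS w C ⊔ C := by
        rw [key s hs hcs hmove, conjS_pair hs']
      have hz := hM.inverts_mod hs' hQ hsL hC le_sup_right hsC
        (fun X hX _ hXf => hM.eq_of_fix hs hC hcs hX hXf) hw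
      have hzC : conjS (w * (s * w * s⁻¹)) C = C :=
        conjS_eq_self_iff.2 (centralizer_le_normalizer _ (centralizer_le (le_sup_right : C ≤ conjS w C ⊔ C) hz.2))
      rw [← conjS_mul, show s * w = w⁻¹ * (w * (s * w * s⁻¹)) * s by group, conjS_mul, hsC,
        conjS_mul, hzC]
    rw [key2 u hu2 hcu hufix, key2 t ht hc hfix]
  -- so `u t` fixes every member
  set d := u * t with hd
  have hd2 : d * d = 1 := by
    rw [hd, Commute.mul_mul_mul_comm hg u t, hu', ht', one_mul]
  have hdc : C ≤ centralizer ({d} : Set G) := fun x hx => by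
    rw [mem_centralizer_singleton_iff, hd, ← mul_assoc,
      mem_centralizer_singleton_iff.1 (hcu hx), mul_assoc,
      mem_centralizer_singleton_iff.1 (hc hx), ← mul_assoc]
  have hdfix : ∀ B ∈ D, conjS d B = B := fun B hB => by
    rw [hd, conjS_mul, ← heq B hB, conjS_invol hu']
  have hdcen : d ∈ center G := by
    have htop : (⊤ : Subgroup G) ≤ centralizer ({d} : Set G) :=
      hM.top ▸ sSup_le fun B hB => hM.consistent hd2 hC hB hdc (hdfix B hB)
    exact mem_center_iff.2 fun x => mem_centralizer_singleton_iff.1 (htop (mem_top x))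
  rw [hM.cen, mem_bot, hd] at hdcen
  exact (eq_inv_of_mul_eq_one_left hdcen).trans (inv_eq_self ht')

theorem false_of_cent (hM : Min p q D) (ht : orderOf t = 2) (hC : C ∈ D)
    (hc : C ≤ centralizer ({t} : Set G)) : False := by
  have ht' := mul_self_of_orderOf ht
  have hiso := hM.isolated_of_cent ht hC hc
  set O := Cfsg.oddCore G
  haveI : O.Normal := ZStar.Main.oddCore_normal
  have hB : ∀ B ∈ D, B ≤ C ⊔ O := by
    intro B hB
    by_cases hfix : conjS t B = B
    · rw [hM.eq_of_fix ht hC hc hB hfix]; exact le_sup_left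
    have hBO : B ⊔ conjS t B ≤ B ⊔ O := by
      refine sup_le le_sup_left fun x hx => ?_
      have hy := mem_conjS.1 hx
      have h := ZStar.Main.commutator_mem_oddCore hiso (t⁻¹ * x * t)
      have := mul_mem (mem_sup_right (S := B) h) (mem_sup_left (T := O) hy)
      simpa [mul_assoc] using this
    obtain ⟨C₁, hC₁, hC₁L, hfix₁⟩ := hM.exists_fixed_on_line ht' hB hfix
    have := hM.eq_of_fix ht hC hc hC₁ hfix₁
    subst this
    obtain ⟨h, hh, hBC⟩ := hM.orbit (H := B ⊔ conjS t B) hB le_sup_left hC₁ hC₁L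
    have : C₁ ⊔ O = B ⊔ O := by
      rw [← hBC]
      nth_rewrite 1 [← conjS_eq_of_le_normalizer (le_normalizer_of_normal (H := O) (K := ⊤))
        (mem_top h)]
      rw [← conjS_sup, conjS_self (hBO hh)]
    exact this.ge.trans' le_sup_left
  have htop : (⊤ : Subgroup G) ≤ O ⊔ C :=
    hM.top ▸ sSup_le fun B hB' => (hB B hB').trans_eq (sup_comm _ _)
  obtain ⟨o, ho, c, hcC, hoc⟩ := exists_mul_of_mem_sup (U := O) (A := C) le_normalizer_of_normal
    (htop (mem_top t))
  have h := pow_mul_mem (le_normalizer_of_normal (K := C) hcC) ho p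
  rw [hM.exp hC hcC, inv_one, mul_one, hoc] at h
  obtain ⟨m, hm⟩ := hM.hp.odd_of_ne_two hM.hp2
  rw [hm, pow_succ, pow_mul, pow_two, ht', one_pow, one_mul] at h
  exact not_mem_oddCore ht h

theorem no_involution (hM : Min p q D) (hne : D.Nonempty) (ht : orderOf t = 2) : False := by
  by_cases hsome : ∃ s : G, orderOf s = 2 ∧ ∃ C ∈ D, C ≤ centralizer ({s} : Set G)
  · obtain ⟨s, hs, C, hC, hc⟩ := hsome
    exact hM.false_of_cent hs hC hc
  have hinv : ∀ s : G, orderOf s = 2 → ∀ C ∈ D, conjS s C = C → ∀ c ∈ C, s * c * s⁻¹ = c⁻¹ :=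
    fun s hs C hC hfix => (hM.cent_or_inv (mul_self_of_orderOf hs) hC hfix).resolve_left
      fun h => hsome ⟨s, hs, C, hC, h⟩
  have ht' := mul_self_of_orderOf ht
  have hiso : Cfsg.IsIsolatedInvolution t := by
    refine ⟨ht, fun g hg => ?_⟩
    set u := g * t * g⁻¹ with hu
    have hu2 : orderOf u = 2 := by rw [hu, Involutions.Basic.orderOf_conj, ht]
    have hu' := mul_self_of_orderOf hu2
    by_contra hut
    obtain ⟨X, ⟨hX, hXt⟩, hXu⟩ := Sys.exists_fixed hu' {X ∈ D | conjS t X = X}
      (fun X hX => ⟨hM.inv X hX.1 u, conjS_fix_of_commute hg hX.2⟩)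
      (Sys.odd_fixed ht' D (fun X hX => hM.inv X hX t) (hM.odd_ncard hne))
    have hd : orderOf (u * t) = 2 := by
      refine orderOf_eq_prime ?_ fun h =>
        hut ((eq_inv_of_mul_eq_one_left h).trans (inv_eq_self ht'))
      rw [pow_two, Commute.mul_mul_mul_comm hg u t, hu', ht', one_mul]
    refine hsome ⟨u * t, hd, X, hX, fun x hx => ?_⟩
    rw [mem_centralizer_singleton_iff]
    have h : u * t * x * (u * t)⁻¹ = x := by
      rw [show u * t * x * (u * t)⁻¹ = u * (t * x * t⁻¹) * u⁻¹ by group, hinv t ht X hX hXt x hx,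
        hinv u hu2 X hX hXu x⁻¹ (inv_mem hx), inv_inv]
    exact (mul_inv_eq_iff_eq_mul.1 h).symm
  set O := Cfsg.oddCore G
  haveI : O.Normal := ZStar.Main.oddCore_normal
  obtain ⟨C, hC, hfix⟩ := Sys.exists_fixed ht' D (fun X hX => hM.inv X hX t) (hM.odd_ncard hne)
  have hCO : C ≤ O := by
    intro c hc
    have h := ZStar.Main.commutator_mem_oddCore hiso c
    rw [hinv t ht C hC hfix c hc, ← mul_inv_rev, ← pow_two] at h
    exact mem_of_pow_pow_mem hM.hp Nat.prime_two hM.hp2 (hM.exp hC hc) (k := 1)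
      (by simpa using inv_mem h)
  have htop : (⊤ : Subgroup G) ≤ O := hM.top ▸ sSup_le fun B hB => by
    obtain ⟨g, -, rfl⟩ := hM.orbit (H := ⊤) hC le_top hB le_top
    exact (conjS_mono g hCO).trans_eq
      (conjS_eq_of_le_normalizer le_normalizer_of_normal (mem_top g))
  exact not_mem_oddCore ht (htop (mem_top t))

/-- A minimal counterexample does not exist. -/
theorem contradiction' (hM : Min p q D) (hA : A ∈ D) (hB : B ∈ D) (hne : A ≠ B) : False := by
  haveI := Fact.mk Nat.prime_two
  have hodd : Odd (Nat.card G) := by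
    rw [← Nat.not_even_iff_odd, even_iff_two_dvd]
    intro h
    obtain ⟨t, ht⟩ := exists_prime_orderOf_dvd_card' 2 h
    exact hM.no_involution ⟨A, hA⟩ ht
  haveI : Nontrivial G := by
    obtain ⟨a, -, ha, -⟩ := exists_generator hM.hp (hM.card A hA)
    exact ⟨⟨a, 1, ha⟩⟩
  obtain ⟨r, X, hr, hXn, hX1, hXr⟩ :=
    Counting.SylowCount.exists_normal_pGroup_of_isSolvable (S0205.result hodd)
  haveI := hXn
  haveI := Fact.mk hr
  haveI := Fact.mk hM.hq
  by_cases hrq : r = q
  · subst hrq; exact hX1 (hM.noq X hXn hXr)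
  have hfix : ∀ C ∈ D, ∀ x ∈ X, conjS x C = C := by
    intro C hC x hx
    by_contra hxC
    obtain ⟨Q, hQ⟩ := hM.exists_line_core hC (hM.inv C hC x) (Ne.symm hxC)
    have hle : C ⊔ conjS x C ≤ X ⊔ C :=
      sup_le le_sup_right (conjS_le_of_mem (mem_sup_left hx) le_sup_right)
    have hQX : Q ≤ X := le_of_isPGroup_sup hM.hp hM.hq hM.hpq le_normalizer_of_normal
      (fun c hc => hM.exp hC hc) hQ.pg (hQ.le.trans hle)
    refine hM.core_ne_bot hQ hC le_sup_left (hM.inv C hC x) le_sup_right (Ne.symm hxC) ?_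
    exact disjoint_self.1 ((IsPGroup.disjoint_of_ne r q hrq X Q hXr hQ.pg).mono_left hQX)
  have hXC : ∀ C ∈ D, X ≤ centralizer (C : Set G) := by
    intro C hC x hx
    have hCX : ¬ C ≤ X := fun hle => by
      obtain ⟨g, -, hg⟩ := hM.orbit (H := ⊤) hC le_top hB le_top
      obtain ⟨g', -, hg'⟩ := hM.orbit (H := ⊤) hC le_top hA le_top
      have hall : ∀ g, conjS g C ≤ X := fun g => (conjS_mono g hle).trans_eq
        (conjS_eq_of_le_normalizer le_normalizer_of_normal (mem_top g))
      exact hne (hM.fix_eq hA hB fun a ha => conjS_eq_self_iff.1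
        (hfix B hB a (hg' ▸ hall g' <| hg'.symm ▸ ha)))
    rw [mem_centralizer_iff]
    intro c hc
    have h1 : ⁅c, x⁆ ∈ X :=
      mul_mem (Subgroup.Normal.conj_mem inferInstance x hx c) (inv_mem hx)
    have h2 : ⁅c, x⁆ ∈ C := by
      have h3 : x * c⁻¹ * x⁻¹ ∈ C := (hfix C hC x hx).le (conj_mem_conjS x (inv_mem hc))
      simpa [commutatorElement_def, mul_assoc] using mul_mem hc h3
    have h4 : ⁅c, x⁆ ∈ C ⊓ X := ⟨h2, h1⟩
    rw [hM.inf_bot hC hCX, mem_bot, commutatorElement_eq_one_iff_mul_comm] at h4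
    exact h4
  refine hX1 (le_bot_iff.1 (hM.cen ▸ fun x hx => mem_center_iff.2 fun g => ?_))
  have htop : (⊤ : Subgroup G) ≤ centralizer ({x} : Set G) := hM.top ▸ sSup_le fun C hC c hc =>
    mem_centralizer_singleton_iff.2 (mem_centralizer_iff.1 (hXC C hC hx) c hc)
  exact mem_centralizer_singleton_iff.1 (htop (mem_top g))

end Min

end Cfsg.Agent.DistribPairs
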