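import Cfsg.Agent.Lib.DistribPairs.Basic

/-!
# Passing to subgroups and to quotients

A system restricts to the subgroups generated by members, and it passes to the quotient by a
normal `q`-subgroup or a central subgroup unless the quotient already has the wanted structure.
-/

set_option autoImplicit false
set_option linter.unusedSectionVars false
set_option linter.style.haveILetI false

namespace Cfsg.Agent.DistribPairs

open Subgroup
open scoped commutatorElement

universe u

variable {G : Type u} [Group G] {D : Set (Subgroup G)} {p q : ℕ} {A B : Subgroup G}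

/-- The group is a normal `q`-subgroup extended by any member. -/
def Concl (q : ℕ) (D : Set (Subgroup G)) : Prop :=
  ∃ U : Subgroup G, U.Normal ∧ IsPGroup q U ∧ ∀ A ∈ D, U ⊔ A = ⊤

/-- Every proper subgroup generated by members has a core. -/
def AllGood (q : ℕ) (D : Set (Subgroup G)) : Prop :=
  ∀ H : Subgroup G, H ≠ ⊤ → H ≤ gen D H → ∃ U, IsCore q D H U

theorem map_conjS {G' : Type*} [Group G'] (f : G →* G') (g : G) (A : Subgroup G) :
    (conjS g A).map f = conjS (f g) (A.map f) := by
  rw [conjS, conjS, Subgroup.map_map, Subgroup.map_map]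
  congr 1
  ext x
  simp

/-- The induction statement. -/
def Ind (p q : ℕ) (n : ℕ) : Prop :=
  ∀ (H : Type u) [Group H] [Finite H], Nat.card H < n →
    ∀ D : Set (Subgroup H), Sys p q D → sSup D = ⊤ → Concl q D

variable [Finite G]

theorem concl_of_subsingleton (htop : sSup D = ⊤) (h : ∀ A ∈ D, ∀ B ∈ D, A = B) :
    Concl q D :=
  ⟨⊥, inferInstance, IsPGroup.of_bot, fun A hA => by
    rw [bot_sup_eq, ← htop]
    exact le_antisymm (le_sSup hA) (sSup_le fun B hB => (h B hB A hA).le)⟩

namespace Sys

/-- The members below an injective image. -/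
theorem comap_injective (hS : Sys p q D) {H : Type u} [Group H] (f : H →* G)
    (hf : Function.Injective f) : Sys p q {B : Subgroup H | B.map f ∈ D} where
  hp := hS.hp
  hq := hS.hq
  hp2 := hS.hp2
  hq2 := hS.hq2
  hpq := hS.hpq
  card B hB := (card_map_of_injective hf).symm.trans (hS.card _ hB)
  inv B hB h := by
    show (conjS h B).map f ∈ D
    rw [map_conjS]
    exact hS.inv _ hB (f h)
  nc A hA B hB hne hle := hS.nc _ hA _ hB (fun h => hne (map_injective hf h)) (by
    rintro _ ⟨b, hb, rfl⟩
    rw [mem_centralizer_iff]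
    rintro _ ⟨a, ha, rfl⟩
    rw [← map_mul, ← map_mul, mem_centralizer_iff.1 (hle hb) a ha])
  line A hA B hB hne := by
    obtain ⟨Q, hQ, hQL, hN, hL⟩ := hS.line _ hA _ hB fun h => hne (map_injective hf h)
    rw [← Subgroup.map_sup] at hQL hN hL
    have hQr : Q ≤ f.range := hQL.trans (map_le_range _ _)
    refine ⟨Q.comap f, hQ.comap_of_injective f hf, ?_, ?_, ?_⟩
    · exact (comap_mono hQL).trans_eq (comap_map_eq_self_of_injective hf _)
    · intro x hx
      exact le_normalizer_comap f (hN (mem_map_of_mem f hx))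
    · rw [← map_le_map_iff_of_injective hf, Subgroup.map_sup _ (A : Subgroup H),
        map_comap_eq_self hQr]
      exact hL
  closed A hA B hB hne C hC E hE hCE h1 h2 := by
    refine map_injective hf ?_
    rw [Subgroup.map_sup, Subgroup.map_sup]
    refine hS.closed _ hA _ hB (fun h => hne (map_injective hf h)) _ hC _ hE
      (fun h => hCE (map_injective hf h)) ?_ ?_ <;> rw [← Subgroup.map_sup]
    exacts [map_mono h1, map_mono h2]
  mid U hU A hA hAU hgen := by
    have h := hS.mid (U.map f) (hU.map f) _ hA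
      ((map_mono hAU).trans (le_normalizer_map f)) (by
        rw [← Subgroup.map_sup]
        refine (map_mono hgen).trans (map_le_iff_le_comap.2 (sSup_le fun B hB => ?_))
        exact map_le_iff_le_comap.1 (le_gen hB.1 (map_mono hB.2)))
    rw [← Subgroup.map_sup, ← map_commutator] at h
    intro x hx
    rw [mem_centralizer_iff]
    intro y hy
    refine hf ?_
    rw [map_mul, map_mul, mem_centralizer_iff.1 (h (mem_map_of_mem f hx)) _
      (mem_map_of_mem f hy)]

theorem allGood (hS : Sys p q D) (IH : Ind.{u} p q (Nat.card G)) : AllGood q D := by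
  intro H hH hgen
  have hlt : Nat.card H < Nat.card G :=
    lt_of_le_of_ne (card_le_card_group H) fun h => hH (eq_top_of_card_eq H h)
  have htop : sSup {B : Subgroup H | B.map H.subtype ∈ D} = ⊤ := by
    refine map_injective H.subtype_injective (le_antisymm (map_mono le_top) ?_)
    rw [← MonoidHom.range_eq_map, range_subtype]
    refine hgen.trans (sSup_le fun B hB => ?_)
    have hB' : (B.subgroupOf H).map H.subtype = B := map_subgroupOf_eq_of_le hB.2
    rw [← hB']
    refine map_mono (le_sSup ?_)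
    show (B.subgroupOf H).map H.subtype ∈ D
    rw [hB']
    exact hB.1
  obtain ⟨U, hUn, hUq, hU⟩ := IH H hlt _ (hS.comap_injective H.subtype H.subtype_injective) htop
  refine ⟨U.map H.subtype, hUq.map _, map_subtype_le U, fun x hx => ?_, hgen, fun A hA hAH => ?_⟩
  · exact le_normalizer_map H.subtype (mem_map_of_mem H.subtype
      (show (⟨x, hx⟩ : H) ∈ normalizer (U : Set H) by rw [normalizer_eq_top]; exact mem_top _))
  · have hA' : (A.subgroupOf H).map H.subtype = A := map_subgroupOf_eq_of_le hAH
    have := hU (A.subgroupOf H) (show (A.subgroupOf H).map H.subtype ∈ D by rwa [hA'])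
    rw [← hA', ← Subgroup.map_sup, this, ← MonoidHom.range_eq_map, range_subtype]

/-- A nontrivial normal `q`-subgroup or central subgroup reduces the problem. -/
theorem concl_of_normal (hS : Sys p q D) (htop : sSup D = ⊤) (IH : Ind.{u} p q (Nat.card G))
    {N : Subgroup G} [hNn : N.Normal] (hN1 : N ≠ ⊥) (hN : IsPGroup q N ∨ N ≤ center G) :
    Concl q D := by
  classical
  haveI := Fact.mk hS.hp
  haveI := Fact.mk hS.hq
  by_cases hsub : ∀ A ∈ D, ∀ B ∈ D, A = B
  · exact concl_of_subsingleton htop hsub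
  push Not at hsub
  set π := QuotientGroup.mk' N with hπ
  have hπs : Function.Surjective π := QuotientGroup.mk'_surjective N
  have hker : π.ker = N := QuotientGroup.ker_mk' N
  set D' : Set (Subgroup (G ⧸ N)) := {C | ∃ B ∈ D, B.map π = C} with hD'
  have hnotle : ∀ A ∈ D, ¬ A ≤ N := by
    intro A hA hAN
    rcases hN with hN | hN
    · exact hS.ne_bot hA (by rw [← hS.inf_pgroup hS.hq hS.hpq hA hN, inf_eq_left.2 hAN])
    · obtain ⟨B, hB, hBA⟩ : ∃ B ∈ D, A ≠ B := by
        obtain ⟨A₀, hA₀, B₀, hB₀, hne⟩ := hsub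
        by_cases h : A = A₀
        · exact ⟨B₀, hB₀, h ▸ hne⟩
        · exact ⟨A₀, hA₀, h⟩
      exact hS.nc A hA B hB hBA (le_centralizer_iff.1 ((hAN.trans hN).trans (center_le_centralizer _)))
  have hcardD' : ∀ C ∈ D', Nat.card C = p := by
    rintro _ ⟨B, hB, rfl⟩
    refine ((Nat.dvd_prime hS.hp).1 (hS.card B hB ▸ B.card_map_dvd π)).resolve_left fun h => ?_
    rw [card_eq_one, Subgroup.map_eq_bot_iff, hker] at h
    exact hnotle B hB h
  -- lifting the conclusion
  by_cases hc : Concl q D'
  · obtain ⟨V, hVn, hVq, hV⟩ := hc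
    set P := V.comap π with hP
    haveI : P.Normal := hVn.comap π
    have hNP : N ≤ P := by
      rw [← hker, hP, ← MonoidHom.comap_bot]
      exact comap_mono bot_le
    rcases hN with hN | hN
    · have hkq : IsPGroup q π.ker := by rw [hker]; exact hN
      refine ⟨P, inferInstance, hVq.comap_of_ker_isPGroup π hkq, fun A hA => ?_⟩
      rw [eq_top_iff, ← comap_top π, ← hV _ ⟨A, hA, rfl⟩,
        ← map_comap_eq_self_of_surjective hπs V, ← Subgroup.map_sup, comap_map_eq, hker]
      exact sup_le le_rfl (hNP.trans le_sup_left)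
    · set f : P →* V := (π.comp P.subtype).codRestrict V (fun x => x.2) with hf
      have hfs : Function.Surjective f := by
        intro v
        obtain ⟨x, hx⟩ := hπs (v : G ⧸ N)
        exact ⟨⟨x, by rw [hP, mem_comap, hx]; exact v.2⟩, Subtype.ext hx⟩
      haveI := hVq.isNilpotent
      haveI : Group.IsNilpotent P := Subgroup.isNilpotent_of_ker_le_center f (fun x hx => by
        rw [mem_center_iff]
        intro g
        have hxN : (x : G) ∈ N := by
          rw [← hker]
          exact congrArg Subtype.val hx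
        exact Subtype.ext (mem_center_iff.1 (hN hxN) g))
      obtain ⟨S⟩ := (inferInstance : Nonempty (Sylow q P))
      haveI hSn : (S : Subgroup P).Normal :=
        Sylow.normal_of_normalizerCondition Group.normalizerCondition_of_isNilpotent S
      haveI := S.characteristic_of_normal hSn
      set U := (S : Subgroup P).map P.subtype with hU
      haveI : U.Normal := ConjAct.normal_of_characteristic_of_normal
      have hSV : (S : Subgroup P).map f = ⊤ := by
        rw [← index_eq_one]
        obtain ⟨m, hm⟩ := (IsPGroup.iff_card.1 hVq)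
        obtain ⟨j, -, hj⟩ := (Nat.dvd_prime_pow hS.hq).1
          (hm ▸ ((S : Subgroup P).map f).index_dvd_card)
        rcases j with _ | j
        · rw [hj, pow_zero]
        · exact absurd (((dvd_pow_self q j.succ_ne_zero).trans hj.symm.dvd).trans
            (index_map_dvd _ hfs)) S.not_dvd_index
      have hUV : U.map π = V := by
        rw [hU, Subgroup.map_map]
        have : π.comp P.subtype = V.subtype.comp f := rfl
        rw [this, ← Subgroup.map_map, hSV, ← MonoidHom.range_eq_map, range_subtype]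
      refine ⟨U, inferInstance, S.2.map _, fun A hA => ?_⟩
      have h1 : U ⊔ A ⊔ N = ⊤ := by
        rw [← hker, ← comap_map_eq, Subgroup.map_sup, hUV, hV _ ⟨A, hA, rfl⟩, comap_top]
      haveI : (U ⊔ A).Normal := by
        rw [← normalizer_eq_top_iff, eq_top_iff, ← h1]
        refine sup_le Subgroup.le_normalizer fun n hn => conjS_eq_self_iff.1 ?_
        ext x
        rw [mem_conjS, mul_assoc, mem_center_iff.1 (hN hn) x, ← mul_assoc, inv_mul_cancel, one_mul]
      refine eq_top_iff.2 (htop.ge.trans (sSup_le fun B hB => ?_))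
      obtain ⟨g, -, rfl⟩ := hS.orbit (H := ⊤) hA le_top hB le_top
      exact (conjS_mono g le_sup_right).trans_eq
        (conjS_eq_of_le_normalizer le_normalizer_of_normal (mem_top g))
  -- the quotient is again a system
  refine absurd ?_ hc
  have hpre : Pre p D' := by
    refine ⟨hS.hp, hcardD', ?_, ?_⟩
    · rintro _ ⟨B, hB, rfl⟩ g
      obtain ⟨g', rfl⟩ := hπs g
      exact ⟨conjS g' B, hS.inv B hB g', map_conjS π g' B⟩
    · rintro _ ⟨A, hA, rfl⟩ _ ⟨B, hB, rfl⟩ hne hle
      obtain ⟨h, hh, hAB⟩ := hS.orbit (H := A ⊔ B) hA le_sup_left hB le_sup_right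
      refine hne ?_
      have h1 : π h ∈ normalizer ((A.map π : Subgroup _) : Set (G ⧸ N)) := by
        refine (sup_le Subgroup.le_normalizer
          (hle.trans (centralizer_le_normalizer _)) : A.map π ⊔ B.map π ≤ _) ?_
        rw [← Subgroup.map_sup]
        exact mem_map_of_mem π hh
      rw [← hAB, map_conjS, conjS_eq_self_iff.2 h1]
  have htop' : sSup D' = ⊤ := by
    rw [eq_top_iff, ← map_top_of_surjective π hπs, ← htop, map_le_iff_le_comap]
    exact sSup_le fun B hB => map_le_iff_le_comap.1 (le_sSup ⟨B, hB, rfl⟩)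
  have hlt : Nat.card (G ⧸ N) < Nat.card G := by
    rw [N.card_eq_card_quotient_mul_card_subgroup]
    exact lt_mul_of_one_lt_right Nat.card_pos (N.one_lt_card_iff_ne_bot.2 hN1)
  refine IH (G ⧸ N) hlt D' {
    toPre := hpre
    hq := hS.hq
    hp2 := hS.hp2
    hq2 := hS.hq2
    hpq := hS.hpq
    line := ?_
    closed := ?_
    mid := ?_ } htop'
  · rintro _ ⟨A, hA, rfl⟩ _ ⟨B, hB, rfl⟩ hne
    obtain ⟨Q, hQ, hQL, hQN, hL⟩ := hS.line A hA B hB fun h => hne (h ▸ rfl)
    refine ⟨Q.map π, hQ.map π, ?_, ?_, ?_⟩ <;> rw [← Subgroup.map_sup]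
    · exact map_mono hQL
    · exact (map_mono hQN).trans (le_normalizer_map π)
    · rw [← Subgroup.map_sup]
      exact map_mono hL
  · rintro _ ⟨A, hA, rfl⟩ _ ⟨B, hB, rfl⟩ hne C hC E hE hCE h1 h2
    obtain ⟨x, hx, rfl⟩ := hpre.orbit (H := A.map π ⊔ B.map π) ⟨A, hA, rfl⟩ le_sup_left hC h1
    obtain ⟨y, hy, rfl⟩ := hpre.orbit (H := A.map π ⊔ B.map π) ⟨A, hA, rfl⟩ le_sup_left hE h2
    rw [← Subgroup.map_sup] at hx hy
    obtain ⟨x, hx', rfl⟩ := hx
    obtain ⟨y, hy', rfl⟩ := hy
    rw [← map_conjS, ← map_conjS] at hCE ⊢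
    rw [← Subgroup.map_sup, ← Subgroup.map_sup, hS.closed A hA B hB (fun h => hne (h ▸ rfl))
      _ (hS.inv A hA x) _ (hS.inv A hA y) (fun h => hCE (h ▸ rfl))
      (conjS_le_of_mem hx' le_sup_left) (conjS_le_of_mem hy' le_sup_left)]
  · rintro U hU _ ⟨A, hA, rfl⟩ hAU hgen
    set M := U ⊔ A.map π with hM
    set M₀ := gen D (M.comap π) with hM₀
    have hA₀ : A ≤ M₀ := le_gen hA (map_le_iff_le_comap.1 le_sup_right)
    have hmap : M₀.map π = M := by
      refine le_antisymm (map_le_iff_le_comap.2 gen_le) (hgen.trans (sSup_le ?_))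
      rintro _ ⟨⟨B, hB, rfl⟩, hBM⟩
      exact map_mono (le_gen hB (map_le_iff_le_comap.1 hBM))
    by_cases hM₀top : M₀ = ⊤
    · refine absurd ?_ hc
      have hMtop : M = ⊤ := by rw [← hmap, hM₀top, map_top_of_surjective π hπs]
      have hUn : U.Normal := by
        rw [← normalizer_eq_top_iff, eq_top_iff, ← hMtop]
        exact sup_le_normalizer hAU
      refine ⟨U, hUn, hU, fun C hC => ?_⟩
      obtain ⟨g, -, rfl⟩ := hpre.orbit (H := ⊤) ⟨A, hA, rfl⟩ le_top hC le_top
      calc U ⊔ conjS g (A.map π) = conjS g U ⊔ conjS g (A.map π) := by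
            rw [conjS_eq_of_le_normalizer (A := U) le_normalizer_of_normal (mem_top g)]
        _ = ⊤ := by rw [← conjS_sup, ← hM, hMtop, conjS_top]
    obtain ⟨U₀, hU₀⟩ := hS.allGood IH M₀ hM₀top gen_gen
    have hexp : ∀ a ∈ A.map π, a ^ p = 1 := by
      rintro _ ⟨a, ha, rfl⟩
      rw [← map_pow, hS.exp hA ha, map_one]
    have hAU₀ : A.map π ≤ normalizer ((U₀.map π : Subgroup _) : Set (G ⧸ N)) :=
      (map_mono (hU₀.norm_mem hA₀)).trans (le_normalizer_map π)
    have h1 : U₀.map π ≤ U :=
      le_of_isPGroup_sup hS.hp hS.hq hS.hpq hAU hexp (hU₀.pg.map π)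
        ((map_mono hU₀.le).trans hmap.le)
    have h2 : U ≤ U₀.map π := by
      refine le_of_isPGroup_sup hS.hp hS.hq hS.hpq hAU₀ hexp hU ?_
      rw [← Subgroup.map_sup, ← hU₀.eq_sup hA hA₀, hmap]
      exact le_sup_left
    rw [← le_antisymm h1 h2, ← map_commutator, ← hmap]
    refine (map_mono (hS.derived_le_centralizer hU₀ hA hA₀)).trans ?_
    rintro _ ⟨x, hx, rfl⟩
    rw [mem_centralizer_iff]
    rintro _ ⟨y, hy, rfl⟩
    rw [← map_mul, ← map_mul, mem_centralizer_iff.1 hx y hy]

end Sys

end Cfsg.Agent.DistribPairs
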