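import Cfsg.Agent.S0205
import Cfsg.Agent.Solvable.Basics
import Cfsg.Agent.Lib.DistribPairs.Basic

/-!
# Pairs generating copies of one group of odd order

All the groups `A ⊔ B` are `q`-by-`p` for one odd prime `q ≠ p`, and either all of their derived
subgroups are abelian or none is; in the second case the system satisfies `Sys`.
-/

set_option autoImplicit false
set_option linter.unusedSectionVars false
set_option linter.style.haveILetI false

namespace Cfsg.Agent.DistribPairs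

open Subgroup
open scoped commutatorElement

variable {G : Type*} [Group G]

/-- Distinct members generate copies of one group of odd order. -/
structure Strong (p : ℕ) (D : Set (Subgroup G)) : Prop extends Pre p D where
  hp2 : p ≠ 2
  odd : ∀ A ∈ D, ∀ B ∈ D, A ≠ B → Odd (Nat.card ↥(A ⊔ B))
  iso : ∀ A ∈ D, ∀ B ∈ D, A ≠ B → ∀ C ∈ D, ∀ E ∈ D, C ≠ E →
    Nonempty (↥(A ⊔ B) ≃* ↥(C ⊔ E))

variable {D : Set (Subgroup G)} {p : ℕ} {A B C E L K : Subgroup G}

/-- Commutators of a group commute with each other. -/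
def CommAb (L : Subgroup G) : Prop := ∀ x y z w : L, Commute ⁅x, y⁆ ⁅z, w⁆

theorem commAb_iff : CommAb L ↔ ⁅⁅L, L⁆, ⁅L, L⁆⁆ = ⊥ := by
  rw [commutator_eq_bot_iff_le_centralizer]
  constructor
  · intro h
    rw [commutator_le]
    intro x hx y hy
    rw [mem_centralizer_iff]
    intro c hc
    suffices ⁅L, L⁆ ≤ centralizer ({⁅x, y⁆} : Set G) from
      (mem_centralizer_singleton_iff.1 (this hc))
    rw [commutator_le]
    intro z hz w hw
    exact mem_centralizer_singleton_iff.2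
      (congrArg Subtype.val (h ⟨x, hx⟩ ⟨y, hy⟩ ⟨z, hz⟩ ⟨w, hw⟩).eq).symm
  · intro h x y z w
    exact Subtype.ext (mem_centralizer_iff.1 (h (commutator_mem_commutator z.2 w.2)) _
      (commutator_mem_commutator x.2 y.2))

theorem commutator_sup_le {X : Subgroup G} {p : ℕ} (hp : p.Prime) (hA : Nat.card A = p)
    (hAX : A ≤ normalizer (X : Set G)) : ⁅X ⊔ A, X ⊔ A⁆ ≤ X := by
  haveI := Fact.mk hp
  haveI : Finite A := Nat.finite_of_card_ne_zero (hA ▸ hp.ne_zero)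
  haveI : IsCyclic A := isCyclic_of_prime_card hA
  rw [commutator_le]
  intro y hy z hz
  obtain ⟨x, hx, a, ha, rfl⟩ := exists_mul_of_mem_sup hAX hy
  obtain ⟨x', hx', a', ha', rfl⟩ := exists_mul_of_mem_sup hAX hz
  have hc : a * a' = a' * a :=
    congrArg Subtype.val ((IsCyclic.isMulCommutative (α := A)).is_comm.comm
      (⟨a, ha⟩ : A) ⟨a', ha'⟩)
  have hinv : (a * a')⁻¹ = (a' * a)⁻¹ := by rw [hc]
  have key : ⁅x * a, x' * a'⁆ = x * (a * x' * a⁻¹) * (a' * x⁻¹ * a'⁻¹) * x'⁻¹ := by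
    calc ⁅x * a, x' * a'⁆ = x * (a * x') * (a' * a⁻¹) * x⁻¹ * a'⁻¹ * x'⁻¹ := by
          rw [commutatorElement_def]; group
      _ = x * (a * x') * (a⁻¹ * a') * x⁻¹ * a'⁻¹ * x'⁻¹ := by
          rw [show a' * a⁻¹ = a⁻¹ * a' by
            calc a' * a⁻¹ = a⁻¹ * (a * a') * a⁻¹ := by group
              _ = a⁻¹ * (a' * a) * a⁻¹ := by rw [hc]
              _ = a⁻¹ * a' := by group]
      _ = _ := by group
  rw [key]
  exact mul_mem (mul_mem (mul_mem hx ((mem_normalizer_iff.1 (hAX ha) _).1 hx'))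
    ((mem_normalizer_iff.1 (hAX ha') _).1 (inv_mem hx))) (inv_mem hx')

variable [Finite G]

namespace Strong

theorem closed (hS : Strong p D) (hA : A ∈ D) (hB : B ∈ D) (hAB : A ≠ B) (hC : C ∈ D) (hE : E ∈ D)
    (hCE : C ≠ E) (h1 : C ≤ A ⊔ B) (h2 : E ≤ A ⊔ B) : C ⊔ E = A ⊔ B := by
  obtain ⟨e⟩ := hS.iso A hA B hB hAB C hC E hE hCE
  exact eq_of_le_of_card (sup_le h1 h2) (Nat.card_congr e.toEquiv).symm

theorem commAb_congr (hS : Strong p D) (hA : A ∈ D) (hB : B ∈ D) (hAB : A ≠ B) (hC : C ∈ D)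
    (hE : E ∈ D) (hCE : C ≠ E) (h : CommAb (A ⊔ B)) : CommAb (C ⊔ E) := by
  obtain ⟨e⟩ := hS.iso A hA B hB hAB C hC E hE hCE
  intro x y z w
  have := (h (e.symm x) (e.symm y) (e.symm z) (e.symm w)).map e.toMonoidHom
  simpa [map_commutatorElement] using this

theorem line_facts (hS : Strong p D) (hA : A ∈ D) (hB : B ∈ D) (hAB : A ≠ B) :
    ⁅A ⊔ B, A ⊔ B⁆ < A ⊔ B ∧ A ⊓ ⁅A ⊔ B, A ⊔ B⁆ = ⊥ ∧ A ⊔ B ≤ ⁅A ⊔ B, A ⊔ B⁆ ⊔ A := by
  have hlt : ⁅A ⊔ B, A ⊔ B⁆ < A ⊔ B :=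
    Coprime.commutator_lt_of_isSolvable (S0205.result (hS.odd A hA B hB hAB)) fun h =>
      hS.ne_bot hA (le_bot_iff.1 (h ▸ le_sup_left))
  obtain ⟨h, hh, hAh⟩ := hS.orbit (H := A ⊔ B) hA le_sup_left hB le_sup_right
  have hnorm : A ⊔ B ≤ normalizer ((⁅A ⊔ B, A ⊔ B⁆ : Subgroup G) : Set G) :=
    normalizer_commutator_ge_left _ _
  refine ⟨hlt, hS.inf_bot hA fun hle => hlt.not_ge (sup_le hle ?_), sup_le le_sup_right ?_⟩
  · exact hAh.symm.le.trans ((conjS_mono h hle).trans_eq (conjS_eq_of_le_normalizer hnorm hh))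
  · intro x hx'
    have hx : x ∈ conjS h A := hAh.symm ▸ hx'
    set a := h⁻¹ * x * h with ha
    have haA : a ∈ A := mem_conjS.1 hx
    have : x = ⁅h, a⁆ * a := by rw [commutatorElement_def, ha]; group
    rw [this]
    exact mul_mem (mem_sup_left (commutator_mem_commutator hh (le_sup_left (a := A) haA)))
      (mem_sup_right haA)

theorem central_aux (hS : Strong p D) (hA : A ∈ D) (hB : B ∈ D) (hAB : A ≠ B) {N : Subgroup G}
    (hN : A ⊔ B ≤ normalizer (N : Set G)) (hlt : N < ⁅A ⊔ B, A ⊔ B⁆) :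
    A ≤ centralizer (N : Set G) := by
  obtain ⟨hKL, hinf, -⟩ := hS.line_facts hA hB hAB
  rw [le_centralizer_iff]
  intro n hn
  have hAN : A ≤ normalizer (N : Set G) := le_sup_left.trans hN
  have hnL : n ∈ A ⊔ B := hKL.le (hlt.le hn)
  have hfix : conjS n A = A := by
    by_contra hne
    have hCL : conjS n A ≤ A ⊔ B := conjS_le_of_mem hnL le_sup_left
    have hLe : A ⊔ B ≤ N ⊔ A := by
      rw [← hS.closed hA hB hAB hA (hS.inv A hA n) (Ne.symm hne) le_sup_left hCL]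
      exact sup_le le_sup_right (conjS_le_of_mem (mem_sup_left hn) le_sup_right)
    refine hlt.not_ge fun k hk => ?_
    obtain ⟨n', hn', a, ha, rfl⟩ := exists_mul_of_mem_sup hAN (hLe (hKL.le hk))
    have : a ∈ A ⊓ ⁅A ⊔ B, A ⊔ B⁆ := ⟨ha, by
      simpa using mul_mem (inv_mem (hlt.le hn')) hk⟩
    rw [hinf, mem_bot] at this
    simpa [this] using hn'
  rw [mem_centralizer_iff]
  intro a ha
  have h1 : ⁅a, n⁆ ∈ N := mul_mem ((mem_normalizer_iff.1 (hAN ha) n).1 hn) (inv_mem hn)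
  have h2 : ⁅a, n⁆ ∈ A := by
    have h3 : n * a⁻¹ * n⁻¹ ∈ A := by
      have := conj_mem_conjS n (inv_mem ha)
      rwa [hfix] at this
    simpa [commutatorElement_def, mul_assoc] using mul_mem ha h3
  have h4 : ⁅a, n⁆ ∈ A ⊓ ⁅A ⊔ B, A ⊔ B⁆ := ⟨h2, hlt.le h1⟩
  rw [hinf, mem_bot, commutatorElement_eq_one_iff_mul_comm] at h4
  exact h4

theorem central_of_lt (hS : Strong p D) (hA : A ∈ D) (hB : B ∈ D) (hAB : A ≠ B) {N : Subgroup G}
    (hN : A ⊔ B ≤ normalizer (N : Set G)) (hlt : N < ⁅A ⊔ B, A ⊔ B⁆) :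
    A ⊔ B ≤ centralizer (N : Set G) :=
  sup_le (hS.central_aux hA hB hAB hN hlt)
    (hS.central_aux hB hA hAB.symm (sup_comm A B ▸ hN) (sup_comm A B ▸ hlt))

theorem comm_bot_of_abelian {H : Subgroup G} (h : A ≤ centralizer (H : Set G)) (hK : C ≤ H) :
    C ≤ centralizer (A : Set G) :=
  hK.trans (le_centralizer_iff.1 h)

theorem derived_isNilpotent (hS : Strong p D) (hA : A ∈ D) (hB : B ∈ D) (hAB : A ≠ B) :
    Group.IsNilpotent ↥⁅A ⊔ B, A ⊔ B⁆ := by
  set K := ⁅A ⊔ B, A ⊔ B⁆ with hKdef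
  obtain ⟨hKL, -, -⟩ := hS.line_facts hA hB hAB
  have hnorm : A ⊔ B ≤ normalizer (K : Set G) := normalizer_commutator_ge_left _ _
  have hodd : Odd (Nat.card K) := (hS.odd A hA B hB hAB).of_dvd_nat (card_dvd_of_le hKL.le)
  by_cases hK : K = ⊥
  · haveI : Subsingleton K := hK ▸ inferInstance
    infer_instance
  have hlt : ⁅K, K⁆ < K := Coprime.commutator_lt_of_isSolvable (S0205.result hodd) hK
  have hN : A ⊔ B ≤ normalizer ((⁅K, K⁆ : Subgroup G) : Set G) := fun g hg =>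
    conjS_eq_self_iff.1 (by
      rw [conjS, map_commutator]
      show ⁅conjS g K, conjS g K⁆ = _
      rw [conjS_eq_of_le_normalizer hnorm hg])
  have hcen := le_centralizer_iff.1 (hS.central_of_lt hA hB hAB hN hlt)
  refine Subgroup.isNilpotent_of_ker_le_center (Abelianization.of (G := K)) ?_
  rw [Abelianization.ker_of]
  intro c hc
  rw [mem_center_iff]
  intro g
  have hc' : (c : G) ∈ ⁅K, K⁆ := by
    rw [← map_subtype_commutator]
    exact mem_map_of_mem _ hc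
  exact Subtype.ext (mem_centralizer_iff.1 (hcen hc') g (hKL.le g.2))

/-- The derived subgroup of a line is a `q`-group, `q ≠ p`. -/
theorem exists_prime (hS : Strong p D) (hA : A ∈ D) (hB : B ∈ D) (hAB : A ≠ B) :
    ∃ q : ℕ, q.Prime ∧ q ≠ p ∧ q ≠ 2 ∧ q ∣ Nat.card ↥(A ⊔ B) ∧
      IsPGroup q ↥⁅A ⊔ B, A ⊔ B⁆ := by
  classical
  set K := ⁅A ⊔ B, A ⊔ B⁆ with hKdef
  obtain ⟨hKL, hinf, hsup⟩ := hS.line_facts hA hB hAB
  haveI := hS.derived_isNilpotent hA hB hAB
  have hnorm : A ⊔ B ≤ normalizer (K : Set G) := normalizer_commutator_ge_left _ _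
  have hnotcen : ¬ K ≤ centralizer (A : Set G) := fun h => by
    refine hS.nc A hA B hB hAB ((le_sup_right.trans hsup).trans (sup_le h ?_))
    exact le_centralizer_of_le_normalizer hS.hp (hS.card A hA) (hS.card A hA) Subgroup.le_normalizer
  have key : ∀ r : ℕ, r.Prime → ∀ S : Sylow r K,
      (S : Subgroup K).map K.subtype = K ∨
        (S : Subgroup K).map K.subtype ≤ K ⊓ centralizer (A : Set G) := by
    intro r hr S
    haveI := Fact.mk hr
    haveI hSn : (S : Subgroup K).Normal :=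
      Sylow.normal_of_normalizerCondition Group.normalizerCondition_of_isNilpotent S
    set R := (S : Subgroup K).map K.subtype with hR
    have hRK : R ≤ K := map_subtype_le _
    refine or_iff_not_imp_left.2 fun hne => le_inf hRK (le_centralizer_iff.1 (le_sup_left.trans
      (hS.central_of_lt hA hB hAB (fun g hg => ?_) (lt_of_le_of_ne hRK hne))))
    have h1 : conjS g R ≤ K :=
      (conjS_mono g hRK).trans_eq (conjS_eq_of_le_normalizer hnorm hg)
    have h2 : IsPGroup r ((conjS g R).subgroupOf K) :=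
      (isPGroup_conjS g (S.2.map _)).of_equiv (subgroupOfEquivOfLe h1).symm
    obtain ⟨S', hS'⟩ := h2.exists_le_sylow
    haveI := Sylow.unique_of_normal S hSn
    rw [Subsingleton.elim S' S] at hS'
    refine conjS_eq_self_iff.1 (eq_of_le_of_card ?_ (card_conjS g R))
    intro x hx
    exact ⟨⟨x, h1 hx⟩, hS' hx, rfl⟩
  obtain ⟨r, hr, S, hrS⟩ : ∃ r : ℕ, r.Prime ∧ ∃ S : Sylow r K,
      (S : Subgroup K).map K.subtype = K := by
    by_contra hcon
    push Not at hcon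
    refine hnotcen ?_
    have hdvd : Nat.card K ∣ Nat.card ↥(K ⊓ centralizer (A : Set G)) := by
      rw [Nat.dvd_iff_prime_pow_dvd_dvd]
      intro r k hr hk
      haveI := Fact.mk hr
      obtain ⟨S⟩ := (inferInstance : Nonempty (Sylow r K))
      refine dvd_trans ?_ (card_dvd_of_le ((key r hr S).resolve_left (hcon r hr S)))
      rw [card_map_of_injective K.subtype_injective, S.card_eq_multiplicity]
      exact pow_dvd_pow r ((hr.pow_dvd_iff_le_factorization Nat.card_pos.ne').1 hk)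
    exact inf_eq_left.1 (eq_of_le_of_card inf_le_left
      (Nat.dvd_antisymm (card_dvd_of_le inf_le_left) hdvd))
  haveI := Fact.mk hr
  have hKr : IsPGroup r K := by
    have := S.2.map K.subtype
    rwa [hrS] at this
  have hKne : K ≠ ⊥ := fun h => hnotcen (h ▸ bot_le)
  have hdvd : r ∣ Nat.card K := by
    obtain ⟨n, hn⟩ := hKr.exists_card_eq
    rw [hn]
    refine dvd_pow_self r fun h0 => hKne (eq_bot_of_card_eq K (by rw [hn, h0, pow_zero]))
  have hrp : r ≠ p := by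
    rintro rfl
    have hLp : IsPGroup r ↥(A ⊔ B) := by
      have := (isPGroup_of_card_prime (hS.card A hA)).to_sup_of_normal_right' hKr
        (le_sup_left.trans hnorm)
      exact this.to_le (hsup.trans (sup_comm K A).le)
    haveI := hLp.isNilpotent
    have hne : A.subgroupOf (A ⊔ B) ≠ ⊤ := fun h =>
      hAB (hS.eq_of_le hB hA (le_sup_right.trans (subgroupOf_eq_top.1 h))).symm
    obtain ⟨M, hM, hAM⟩ := (eq_top_or_exists_le_coatom _).resolve_left hne
    haveI : M.Normal :=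
      Group.normalizerCondition_of_isNilpotent.normal_of_coatom M hM
    obtain ⟨h, hh, hAh⟩ := hS.orbit (H := A ⊔ B) hA le_sup_left hB le_sup_right
    refine hM.1 (map_subtype_inj.1 (le_antisymm (map_mono le_top) ?_))
    rw [← MonoidHom.range_eq_map, range_subtype]
    refine sup_le (fun x hx => ⟨⟨x, le_sup_left (b := B) hx⟩, hAM hx, rfl⟩) fun x hx => ?_
    have hx' : h⁻¹ * x * h ∈ A := mem_conjS.1 (hAh ▸ hx)
    have hmem := Normal.conj_mem (inferInstance : M.Normal) ⟨h⁻¹ * x * h, le_sup_left (b := B) hx'⟩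
      (hAM hx') ⟨h, hh⟩
    exact ⟨_, hmem, by simp [mul_assoc]⟩
  refine ⟨r, hr, hrp, ?_, hdvd.trans (card_dvd_of_le hKL.le), hKr⟩
  rintro rfl
  exact (hS.odd A hA B hB hAB).not_two_dvd_nat (hdvd.trans (card_dvd_of_le hKL.le))

/-- One prime for all lines. -/
theorem line_core (hS : Strong p D) (hA : A ∈ D) (hB : B ∈ D) (hAB : A ≠ B) :
    ∃ q : ℕ, q.Prime ∧ q ≠ p ∧ q ≠ 2 ∧ ∀ C ∈ D, ∀ E ∈ D, C ≠ E →
      IsPGroup q ↥⁅C ⊔ E, C ⊔ E⁆ ∧ C ⊔ E ≤ ⁅C ⊔ E, C ⊔ E⁆ ⊔ C ∧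
        C ⊓ ⁅C ⊔ E, C ⊔ E⁆ = ⊥ := by
  obtain ⟨q, hq, hqp, hq2, hdvd, -⟩ := hS.exists_prime hA hB hAB
  refine ⟨q, hq, hqp, hq2, fun C hC E hE hCE => ?_⟩
  obtain ⟨hKL, hinf, hsup⟩ := hS.line_facts hC hE hCE
  obtain ⟨r, hr, hrp, -, -, hK⟩ := hS.exists_prime hC hE hCE
  refine ⟨?_, hsup, hinf⟩
  suffices q = r from this ▸ hK
  haveI := Fact.mk hr
  obtain ⟨e⟩ := hS.iso A hA B hB hAB C hC E hE hCE
  obtain ⟨n, hn⟩ := hK.exists_card_eq
  haveI := Fact.mk hq
  obtain ⟨x, hx⟩ := exists_prime_orderOf_dvd_card' q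
    (show q ∣ Nat.card ↥(C ⊔ E) from Nat.card_congr e.toEquiv ▸ hdvd)
  rw [← Subgroup.orderOf_coe] at hx
  have hxK : (x : G) ∈ ⁅C ⊔ E, C ⊔ E⁆ := by
    refine le_of_isPGroup_sup hS.hp hq (Ne.symm hqp)
      (le_sup_left.trans (normalizer_commutator_ge_left _ _)) (fun c hc => hS.exp hC hc)
      (IsPGroup.of_card (n := 1) ?_) ((zpowers_le.2 x.2).trans hsup) (mem_zpowers _)
    rw [Nat.card_zpowers, hx, pow_one]
  have h := Subgroup.orderOf_dvd_natCard _ hxK
  rw [hx, hn] at h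
  exact (Nat.prime_dvd_prime_iff_eq hq hr).1 (hq.dvd_of_dvd_pow h)

/-- If no derived subgroup of a line is abelian, `U'` is central in `U ⊔ A`. -/
theorem mid_of_nonab (hS : Strong p D) {q : ℕ} (hq : q.Prime) (hqp : p ≠ q)
    (hnab : ∀ C ∈ D, ∀ E ∈ D, C ≠ E → ¬ CommAb (C ⊔ E)) {U : Subgroup G} (hU : IsPGroup q U)
    (hA : A ∈ D) (hAU : A ≤ normalizer (U : Set G)) (hgen : U ⊔ A ≤ gen D (U ⊔ A)) :
    ⁅U, U⁆ ≤ centralizer ((U ⊔ A : Subgroup G) : Set G) := by
  haveI := Fact.mk hq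
  set M := U ⊔ A with hM
  have hMN : M ≤ normalizer (U : Set G) := sup_le_normalizer hAU
  -- abelian invariant subgroups of `U` are centralised by the members in `M`
  have abX : ∀ X : Subgroup G, X ≤ U → X ≤ centralizer (X : Set G) →
      M ≤ normalizer (X : Set G) → X ≤ centralizer (M : Set G) := by
    intro X hXU hX hXM
    rw [le_centralizer_iff]
    refine hgen.trans (sSup_le fun C hC => ?_)
    have hCX : C ≤ normalizer (X : Set G) := hC.2.trans hXM
    rw [le_centralizer_iff]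
    intro x hx
    have hfix : conjS x C = C := by
      by_contra hne
      refine hnab C hC.1 _ (hS.inv C hC.1 x) (Ne.symm hne) (commAb_iff.2 ?_)
      rw [commutator_eq_bot_iff_le_centralizer]
      have hle : ⁅C ⊔ conjS x C, C ⊔ conjS x C⁆ ≤ X := by
        refine (commutator_mono ?_ ?_).trans (commutator_sup_le hS.hp (hS.card C hC.1) hCX) <;>
          exact sup_le le_sup_right (conjS_le_of_mem (mem_sup_left hx) le_sup_right)
      exact hle.trans (hX.trans (centralizer_le hle))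
    exact hS.norm_centralizes hq hqp (hU.to_le hXU) hC.1 hCX hx hfix
  set Z := U ⊓ centralizer (M : Set G) with hZ
  have hZc : ∀ z ∈ Z, ∀ g ∈ M, g * z = z * g := fun z hz g hg => mem_centralizer_iff.1 hz.2 g hg
  have hUM : U ≤ M := le_sup_left
  have hd : ⁅U, U⁆ ≤ U := le_normalizer_iff_commutator_le_right.1 Subgroup.le_normalizer
  -- the elements of `U'` central modulo `Z`
  let X : Subgroup G :=
    { carrier := {w | w ∈ ⁅U, U⁆ ∧ ∀ u ∈ U, ⁅w, u⁆ ∈ Z}
      one_mem' := ⟨one_mem _, fun u _ => by simp⟩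
      mul_mem' := fun {a b} ha hb => ⟨mul_mem ha.1 hb.1, fun u hu => by
        have h1 : ⁅a * b, u⁆ = a * ⁅b, u⁆ * a⁻¹ * ⁅a, u⁆ := by
          simp only [commutatorElement_def]; group
        rw [h1, hZc _ (hb.2 u hu) a (hUM (hd ha.1)), mul_inv_cancel_right]
        exact mul_mem (hb.2 u hu) (ha.2 u hu)⟩
      inv_mem' := fun {a} ha => ⟨inv_mem ha.1, fun u hu => by
        have h1 : ⁅a⁻¹, u⁆ = a⁻¹ * ⁅a, u⁆⁻¹ * a := by
          simp only [commutatorElement_def]; group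
        rw [h1, hZc _ (inv_mem (ha.2 u hu)) a⁻¹ (inv_mem (hUM (hd ha.1))), inv_mul_cancel_right]
        exact inv_mem (ha.2 u hu)⟩ }
  have hXZ : X ≤ Z := by
    refine fun w hw => ⟨hd hw.1, abX X (fun x hx => hd hx.1) ?_ ?_ hw⟩
    · intro x hx
      rw [mem_centralizer_iff]
      intro y hy
      suffices ⁅U, U⁆ ≤ centralizer ({x} : Set G) from
        mem_centralizer_singleton_iff.1 (this hy.1)
      rw [commutator_le]
      intro u hu v hv
      rw [mem_centralizer_singleton_iff]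
      have hu' := hx.2 u hu
      have hv' := hx.2 v hv
      have e1 : x * u * x⁻¹ = ⁅x, u⁆ * u := by rw [commutatorElement_def]; group
      have e2 : x * v * x⁻¹ = ⁅x, v⁆ * v := by rw [commutatorElement_def]; group
      have hc : ∀ z ∈ Z, ∀ g ∈ U, Commute z g := fun z hz g hg => (hZc z hz g (hUM hg)).symm
      have e3 : x * ⁅u, v⁆ * x⁻¹ = ⁅⁅x, u⁆ * u, ⁅x, v⁆ * v⁆ := by
        rw [← e1, ← e2]; simp only [commutatorElement_def]; group
      have e4 : ⁅⁅x, u⁆ * u, ⁅x, v⁆ * v⁆ = ⁅u, v⁆ := by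
        generalize ⁅x, u⁆ = z₁ at hu' ⊢
        generalize ⁅x, v⁆ = z₂ at hv' ⊢
        have c1 := hc z₁ hu'
        have c2 := hc z₂ hv'
        rw [commutatorElement_def, commutatorElement_def, mul_inv_rev, mul_inv_rev]
        calc z₁ * u * (z₂ * v) * (u⁻¹ * z₁⁻¹) * (v⁻¹ * z₂⁻¹)
            = z₁ * (u * z₂) * v * u⁻¹ * (z₁⁻¹ * v⁻¹) * z₂⁻¹ := by group
          _ = z₁ * (z₂ * u) * v * u⁻¹ * (v⁻¹ * z₁⁻¹) * z₂⁻¹ := by
              rw [(c2 u hu).eq, ((c1 v⁻¹ (inv_mem hv)).inv_left).eq]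
          _ = (z₁ * z₂) * (u * v * u⁻¹ * v⁻¹) * (z₁⁻¹ * z₂⁻¹) := by group
          _ = (u * v * u⁻¹ * v⁻¹) * (z₁ * z₂) * (z₁⁻¹ * z₂⁻¹) := by
              rw [((c1 _ (mul_mem (mul_mem (mul_mem hu hv) (inv_mem hu)) (inv_mem hv))).mul_left
                (c2 _ (mul_mem (mul_mem (mul_mem hu hv) (inv_mem hu)) (inv_mem hv)))).eq]
          _ = (u * v * u⁻¹ * v⁻¹) * (z₁ * (z₂ * z₁⁻¹) * z₂⁻¹) := by group
          _ = u * v * u⁻¹ * v⁻¹ := by
              rw [((c2 z₁ (by exact hu'.1)).inv_right).eq]; group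
      rw [e4] at e3
      exact ((mul_inv_eq_iff_eq_mul.1 e3).symm)
    · intro g hg
      have hgU : conjS g U = U := conjS_eq_of_le_normalizer hMN hg
      have hgd : conjS g ⁅U, U⁆ = ⁅U, U⁆ := by
        rw [conjS, map_commutator]
        show ⁅conjS g U, conjS g U⁆ = _
        rw [hgU]
      refine conjS_eq_self_iff.1 (eq_of_le_of_card ?_ (card_conjS g X))
      intro x hx
      rw [mem_conjS] at hx
      refine ⟨hgd.le (mem_conjS.2 hx.1), fun u hu => ?_⟩
      have hu' : g⁻¹ * u * g ∈ U := mem_conjS.1 (hgU.ge hu)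
      have h1 := hx.2 _ hu'
      have e : ⁅x, u⁆ = g * ⁅g⁻¹ * x * g, g⁻¹ * u * g⁆ * g⁻¹ := by
        simp only [commutatorElement_def]; group
      rw [e, hZc _ h1 g hg, mul_inv_cancel_right]
      exact h1
  refine le_trans ?_ (inf_le_right : Z ≤ centralizer (M : Set G))
  set Z₀ := Z.subgroupOf U with hZ₀
  haveI : Z₀.Normal := ⟨fun z hz g => by
    show (g : G) * (z : G) * (g : G)⁻¹ ∈ Z
    rw [hZc (z : G) hz (g : G) (hUM g.2), mul_inv_cancel_right]
    exact hz⟩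
  haveI : Group.IsNilpotent U := hU.isNilpotent
  by_contra hnot
  set π := QuotientGroup.mk' Z₀ with hπ
  haveI : ((commutator U).map π).Normal :=
    Normal.map inferInstance π (QuotientGroup.mk'_surjective Z₀)
  have hne : (commutator U).map π ≠ ⊥ := by
    rw [Ne, Subgroup.map_eq_bot_iff, hπ, QuotientGroup.ker_mk']
    intro h
    refine hnot (fun w hw => ?_)
    rw [← map_subtype_commutator] at hw
    obtain ⟨w', hw', rfl⟩ := hw
    exact h hw'
  obtain ⟨v, hv, hv1⟩ := (Subgroup.nontrivial_iff_exists_ne_one _).1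
    ((Subgroup.nontrivial_iff_ne_bot _).2 (Solvable.Basics.inf_center_ne_bot hne))
  obtain ⟨w, hw, rfl⟩ := hv.1
  refine hv1 ?_
  rw [hπ, QuotientGroup.mk'_apply, QuotientGroup.eq_one_iff]
  refine hXZ ⟨?_, fun u hu => ?_⟩
  · rw [← map_subtype_commutator]
    exact mem_map_of_mem _ hw
  · have : ⁅w, (⟨u, hu⟩ : U)⁆ ∈ Z₀ := by
      rw [← QuotientGroup.eq_one_iff, ← QuotientGroup.mk'_apply, ← hπ, map_commutatorElement,
        commutatorElement_eq_one_iff_mul_comm]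
      exact (mem_center_iff.1 hv.2 _).symm
    exact this

theorem sys_of_nonab (hS : Strong p D) {q : ℕ} (hq : q.Prime) (hqp : q ≠ p) (hq2 : q ≠ 2)
    (hcore : ∀ C ∈ D, ∀ E ∈ D, C ≠ E → IsPGroup q ↥⁅C ⊔ E, C ⊔ E⁆ ∧
      C ⊔ E ≤ ⁅C ⊔ E, C ⊔ E⁆ ⊔ C)
    (hnab : ∀ C ∈ D, ∀ E ∈ D, C ≠ E → ¬ CommAb (C ⊔ E)) : Sys p q D where
  toPre := hS.toPre
  hq := hq
  hp2 := hS.hp2
  hq2 := hq2
  hpq := hqp.symm
  line A hA B hB hAB := ⟨_, (hcore A hA B hB hAB).1,
    le_normalizer_iff_commutator_le_right.1 Subgroup.le_normalizer,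
    normalizer_commutator_ge_left _ _, (hcore A hA B hB hAB).2⟩
  closed A hA B hB hAB C hC E hE hCE := hS.closed hA hB hAB hC hE hCE
  mid U hU A hA hAU hgen := hS.mid_of_nonab hq hqp.symm hnab hU hA hAU hgen

end Strong

end Cfsg.Agent.DistribPairs
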